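import Cfsg.Agent.Lib.Helper5.AutBN.ChevFacts2
import Cfsg.Agent.Lib.Helper5.Unip.ChevFacts
import Cfsg.Agent.Lib.Helper5.Unip.Restrict
import Cfsg.Agent.Lib.Helper5.Chev.BNPairChev
import Mathlib

/-!
# Normal form of an automorphism of a Chevalley group over a finite field (helper5)

After composing with an inner automorphism, an automorphism of `D.group F` fixes `U`, `V`, `B`
and permutes the fundamental root subgroups `X_{p_i}` and their opposites `X_{-p_i}` by one and
the same permutation of the nodes.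
-/

set_option autoImplicit false

namespace Cfsg.Agent.Lib.Helper5.AutBN

open Cfsg Cfsg.Lie Cfsg.Agent.Lib.Helper5 Cfsg.Agent.Lib.Helper5.Chev
open scoped Matrix

section bridge

variable {Γ : Type*} [Group Γ]

theorem cj_subgroupOf (K G : Subgroup Γ) (g : Γ) (hg : g ∈ G) :
    cj (⟨g, hg⟩ : ↥G) (K.subgroupOf G) = (cj g K).subgroupOf G := by
  ext x
  rw [mem_cj, Subgroup.mem_subgroupOf, Subgroup.mem_subgroupOf, mem_cj]
  rfl

theorem inf_subgroupOf' (K L G : Subgroup Γ) :
    (K ⊓ L).subgroupOf G = K.subgroupOf G ⊓ L.subgroupOf G := by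
  ext x
  simp only [Subgroup.mem_subgroupOf, Subgroup.mem_inf]

theorem eq_bot_of_subgroupOf_eq_bot {K G : Subgroup Γ} (hK : K ≤ G)
    (h : K.subgroupOf G = ⊥) : K = ⊥ := by
  rw [eq_bot_iff]
  intro y hy
  have h1 : (⟨y, hK hy⟩ : ↥G) ∈ K.subgroupOf G := by
    rw [Subgroup.mem_subgroupOf]
    exact hy
  rw [h, Subgroup.mem_bot] at h1
  rw [Subgroup.mem_bot]
  exact congrArg Subtype.val h1

end bridge

section main

variable {F : Type*} [Field F] [Finite F]

/-- the normal form of an automorphism: subgroup version -/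
theorem exists_aut_normal_form (D : ChevalleyDatum)
    (hD : D ∈ [chevG2, chevB2, chevD4, chevF4, chevE6, chevE7, chevE8])
    (θ : ↥(D.group F) ≃* ↥(D.group F)) :
    ∃ (x : ↥(D.group F)) (ρ : Equiv.Perm (Fin D.rank)),
      ((D.posUnipotent F).subgroupOf (D.group F)).map (θ.trans (MulAut.conj x⁻¹)).toMonoidHom
        = (D.posUnipotent F).subgroupOf (D.group F) ∧
      ((D.negUnipotent F).subgroupOf (D.group F)).map (θ.trans (MulAut.conj x⁻¹)).toMonoidHom
        = (D.negUnipotent F).subgroupOf (D.group F) ∧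
      ((D.borelSubgroup F).subgroupOf (D.group F)).map (θ.trans (MulAut.conj x⁻¹)).toMonoidHom
        = (D.borelSubgroup F).subgroupOf (D.group F) ∧
      (∀ i : Fin D.rank, ((D.rootSubgroup F (D.simple i)).subgroupOf (D.group F)).map
          (θ.trans (MulAut.conj x⁻¹)).toMonoidHom
        = (D.rootSubgroup F (D.simple (ρ i))).subgroupOf (D.group F)) ∧
      (∀ i : Fin D.rank, ((D.rootSubgroup F (D.neg (D.simple i))).subgroupOf (D.group F)).map
          (θ.trans (MulAut.conj x⁻¹)).toMonoidHom
        = (D.rootSubgroup F (D.neg (D.simple (ρ i)))).subgroupOf (D.group F)) := by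
  classical
  cases nonempty_fintype F
  have hadd := allAdd_all (F := F) D hD
  obtain ⟨P, hPB, hPN, hPS⟩ := bnPair_all (F := F) D hD
  obtain ⟨T, Bs, mLL, gH, baseH, fuel, hA, hB, hr, hbase, hcox⟩ := cox_known D hD
  have hBG : D.borelSubgroup F ≤ D.group F := hadd.borel_le
  have hNG : D.monomialSubgroup F ≤ D.group F := hadd.monomial_le
  have hUG : D.posUnipotent F ≤ D.group F := hadd.posUnipotent_le
  have hUB : D.posUnipotent F ≤ D.borelSubgroup F := le_sup_left
  have : Fact (ringChar F).Prime := ⟨CharP.char_is_prime F _⟩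
  have : CharP F (ringChar F) := ringChar.charP F
  have : Finite ↥(D.group F) := inferInstance
  -- the generators
  let s : Fin D.rank → ↥(D.group F) := fun i => ⟨nUi hA hadd i, hNG (nUi_mem hA hadd i)⟩
  have hinj : Function.Injective s := by
    intro i j h
    apply Fin.ext
    exact nUi_injective D hD hA hadd i j i.2 j.2 (congrArg Subtype.val h)
  have hS : Set.range s = P.S := by
    rw [hPS]
    ext t
    constructor
    · rintro ⟨i, rfl⟩
      exact ⟨i, i.2, nUi_val hA hadd i.2⟩
    · rintro ⟨i, hi, ht⟩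
      refine ⟨⟨i, hi⟩, ?_⟩
      apply Subtype.ext
      apply Units.ext
      rw [ht]
      exact nUi_val hA hadd hi
  -- the normaliser of `U`
  have hnorm : Subgroup.normalizer
      (((D.posUnipotent F).subgroupOf (D.group F) : Subgroup ↥(D.group F)) : Set ↥(D.group F))
        = P.B := by
    rw [hPB]
    ext y
    rw [Subgroup.mem_subgroupOf]
    constructor
    · intro hy
      apply mem_borel_of_normalizer D hD _ y.2
      rw [Subgroup.mem_normalizer_iff]
      rw [Subgroup.mem_normalizer_iff] at hy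
      intro h
      constructor
      · intro hh
        have := (hy ⟨h, hUG hh⟩).1 (by rw [Subgroup.mem_subgroupOf]; exact hh)
        rw [Subgroup.mem_subgroupOf] at this
        exact this
      · intro hh
        have hhG : h ∈ D.group F := by
          have e : h = (y : GL D.Idx F)⁻¹ * ((y : GL D.Idx F) * h * (y : GL D.Idx F)⁻¹) *
              (y : GL D.Idx F) := by group
          rw [e]
          exact Subgroup.mul_mem _ (Subgroup.mul_mem _ (Subgroup.inv_mem _ y.2) (hUG hh)) y.2
        have := (hy ⟨h, hhG⟩).2 (by rw [Subgroup.mem_subgroupOf]; exact hh)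
        rw [Subgroup.mem_subgroupOf] at this
        exact this
    · intro hy
      have hyn := borel_le_normalizer_all D hD hy
      rw [Subgroup.mem_normalizer_iff] at hyn ⊢
      intro h
      rw [Subgroup.mem_subgroupOf, Subgroup.mem_subgroupOf]
      exact hyn h
  -- the longest element
  obtain ⟨n0, hn0, hUV, hVU, ho1, ho2⟩ := exists_longest (F := F) D hD
  have hbot : P.B ⊓ (D.negUnipotent F).subgroupOf (D.group F) = ⊥ := by
    rw [hPB, ← inf_subgroupOf', (borel_inf_neg_all D hD).1, Subgroup.bot_subgroupOf]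
  -- the minimal parabolic subgroups
  have hpar : ∀ i : Fin D.rank, P.parabolic {s i}
      = (D.parabolicSubgroup F {(i : ℕ)}).subgroupOf (D.group F) := by
    intro i
    unfold ChevalleyDatum.parabolicSubgroup BNPair.parabolic
    have hcl : Subgroup.closure {g : GL D.Idx F | ∃ j ∈ ({(i : ℕ)} : Set ℕ), j < D.rank ∧
        (g : Matrix D.Idx D.Idx F) = D.nMat F (D.simple j) 1} ≤ D.group F := by
      rw [Subgroup.closure_le]
      rintro g ⟨j, -, hj, hg⟩
      have : g = nUi hA hadd j := Units.ext (by rw [hg, nUi_val hA hadd hj])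
      rw [this]
      exact hNG (nUi_mem hA hadd j)
    rw [Unip.sup_subgroupOf_of_le _ _ _ hBG hcl, hPB]
    congr 1
    rw [Unip.closure_subgroupOf_of_subset _ _ ((Subgroup.closure_le _).1 hcl)]
    congr 1
    ext y
    constructor
    · intro hy
      rw [Set.mem_singleton_iff] at hy
      subst hy
      exact ⟨i, rfl, i.2, nUi_val hA hadd i.2⟩
    · rintro ⟨j, hj, hjr, hy⟩
      rw [Set.mem_singleton_iff] at hj
      subst hj
      rw [Set.mem_singleton_iff]
      apply Subtype.ext
      apply Units.ext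
      rw [hy]
      exact (nUi_val hA hadd i.2).symm
  obtain ⟨x, ρ, h1, h2, h3, -, h5, h6⟩ := exists_normal_form P (ringChar F) s
    ((D.posUnipotent F).subgroupOf (D.group F)) ((D.negUnipotent F).subgroupOf (D.group F))
    (⟨n0, hNG hn0⟩ : ↥(D.group F))
    (fun i => (D.rootSubgroup F (D.simple i)).subgroupOf (D.group F))
    (fun i => (D.rootSubgroup F (D.neg (D.simple i))).subgroupOf (D.group F))
    hinj hS ((Unip.isPGroup_posUnipotent D hD (ringChar F)).comap_subtype)
    (Unip.pos_index_not_dvd D hD (ringChar F)) hnorm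
    (by rw [cj_subgroupOf, hUV]) (by rw [cj_subgroupOf, hVU]) hbot
    (by
      intro g hg
      rw [hPB] at hg ⊢
      have hg' : cj (⟨(g : GL D.Idx F), g.2⟩ : ↥(D.group F))
          ((D.posUnipotent F).subgroupOf (D.group F)) ⊓
            (D.borelSubgroup F).subgroupOf (D.group F) = ⊥ := hg
      rw [cj_subgroupOf, ← inf_subgroupOf'] at hg'
      have h7 := eq_bot_of_subgroupOf_eq_bot (inf_le_right.trans hBG) hg'
      obtain ⟨b, hb, e⟩ := exists_borel_conj D hD _ g.2 h7
      refine ⟨⟨b, hBG hb⟩, ?_, ?_⟩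
      · rw [Subgroup.mem_subgroupOf]
        exact hb
      · have : cj g ((D.posUnipotent F).subgroupOf (D.group F))
            = cj (⟨(g : GL D.Idx F), g.2⟩ : ↥(D.group F))
              ((D.posUnipotent F).subgroupOf (D.group F)) := rfl
        rw [this, cj_subgroupOf, cj_subgroupOf, e])
    (by
      intro i
      show (D.rootSubgroup F (D.neg (D.simple i))).subgroupOf (D.group F) = _
      rw [hpar i, ← inf_subgroupOf', parabolic_inf_neg D hD i i.2])
    (by
      intro i
      obtain ⟨j, hj, e⟩ := ho2 i i.2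
      refine ⟨⟨j, hj⟩, ?_⟩
      show cj _ ((D.rootSubgroup F (D.neg (D.simple j))).subgroupOf (D.group F)) = _
      rw [cj_subgroupOf, e])
    (by
      intro j
      obtain ⟨k, hk, e⟩ := ho1 j j.2
      refine ⟨⟨k, hk⟩, ?_⟩
      show cj _ ((D.rootSubgroup F (D.neg (D.simple j))).subgroupOf (D.group F)) = _
      rw [cj_subgroupOf, e])
    (by
      intro i j hij y hy z hz
      have hy' : (y : GL D.Idx F) ∈ D.rootSubgroup F (D.simple i) := hy
      have hz' : (z : GL D.Idx F) ∈ D.rootSubgroup F (D.neg (D.simple j)) := hz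
      rw [mem_rootSubgroup_iff hadd] at hy' hz'
      obtain ⟨t, ht⟩ := hy'
      obtain ⟨u, hu⟩ := hz'
      apply Subtype.ext
      rw [Subgroup.coe_mul, Subgroup.coe_mul, ht, hu]
      exact comm_simple_neg D hD hadd i j i.2 j.2 (fun e => hij (Fin.ext e)) t u)
    (by
      intro i
      obtain ⟨hp, hq⟩ := simple_lt_all D hD i i.2
      refine ⟨⟨hadd.xU (D.simple i) 1, hadd.xU_mem_group _ _⟩, ?_,
        ⟨hadd.xU (D.neg (D.simple i)) (-1), hadd.xU_mem_group _ _⟩, ?_, ?_⟩
      · show hadd.xU (D.simple i) 1 ∈ D.rootSubgroup F (D.simple i)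
        exact xU_mem_rootSubgroup hadd _ _
      · show hadd.xU (D.neg (D.simple i)) (-1) ∈ D.rootSubgroup F (D.neg (D.simple i))
        exact xU_mem_rootSubgroup hadd _ _
      · intro e
        exact not_comm_simple D hD hadd i i.2 (congrArg Subtype.val e))
    θ
  rw [hPB] at h3
  exact ⟨x, ρ, h1, h2, h3, h5, h6⟩

end main

end Cfsg.Agent.Lib.Helper5.AutBN
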