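import Cfsg.Agent.Lib.Helper5.Chev.W0All
import Mathlib

/-!
# Data checks for the automorphisms of Chevalley groups (helper5)

The fundamental roots are distinct, the longest element maps the opposites of the fundamental
roots to fundamental roots, and a fundamental root element commutes with the opposite of another.
-/

set_option autoImplicit false
set_option maxRecDepth 100000

namespace Cfsg.Agent.Lib.Helper5.AutBN

open Cfsg.Lie Cfsg.Agent.Lib.Helper5.Chev

/-- the check that the word maps the opposite of every fundamental root to a fundamental root -/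
def oppb (D : ChevalleyDatum) (Bs L : List ℕ) : Bool :=
  (List.range D.rank).all fun j =>
    (List.range D.rank).any fun k => wW Bs L (D.neg (D.simple j)) == D.simple k

/-- the check that every fundamental root is reached -/
def oppb' (D : ChevalleyDatum) (Bs L : List ℕ) : Bool :=
  (List.range D.rank).all fun k =>
    (List.range D.rank).any fun j => wW Bs L (D.neg (D.simple j)) == D.simple k

theorem oppb_spec (D : ChevalleyDatum) (Bs L : List ℕ) (h : oppb D Bs L = true) (j : ℕ)
    (hj : j < D.rank) : ∃ k < D.rank, wW Bs L (D.neg (D.simple j)) = D.simple k := by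
  unfold oppb at h
  rw [List.all_eq_true] at h
  have := h j (List.mem_range.2 hj)
  rw [List.any_eq_true] at this
  obtain ⟨k, hk, e⟩ := this
  exact ⟨k, List.mem_range.1 hk, by simpa using e⟩

theorem oppb'_spec (D : ChevalleyDatum) (Bs L : List ℕ) (h : oppb' D Bs L = true) (k : ℕ)
    (hk : k < D.rank) : ∃ j < D.rank, wW Bs L (D.neg (D.simple j)) = D.simple k := by
  unfold oppb' at h
  rw [List.all_eq_true] at h
  have := h k (List.mem_range.2 hk)
  rw [List.any_eq_true] at this
  obtain ⟨j, hj, e⟩ := this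
  exact ⟨j, List.mem_range.1 hj, by simpa using e⟩

theorem oppG2 : oppb chevG2 BsG2.Bs w0G2 = true ∧ oppb' chevG2 BsG2.Bs w0G2 = true := by
  constructor <;> decide +kernel
theorem oppB2 : oppb chevB2 BsB2.Bs w0B2 = true ∧ oppb' chevB2 BsB2.Bs w0B2 = true := by
  constructor <;> decide +kernel
theorem oppD4 : oppb chevD4 BsD4.Bs w0D4 = true ∧ oppb' chevD4 BsD4.Bs w0D4 = true := by
  constructor <;> decide +kernel
theorem oppF4 : oppb chevF4 BsF4.Bs w0F4 = true ∧ oppb' chevF4 BsF4.Bs w0F4 = true := by
  constructor <;> decide +kernel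
theorem oppE6 : oppb chevE6 BsE6.Bs w0E6 = true ∧ oppb' chevE6 BsE6.Bs w0E6 = true := by
  constructor <;> decide +kernel
theorem oppE7 : oppb chevE7 BsE7.Bs w0E7 = true ∧ oppb' chevE7 BsE7.Bs w0E7 = true := by
  constructor <;> decide +kernel
theorem oppE8 : oppb chevE8 BsE8.Bs w0E8 = true ∧ oppb' chevE8 BsE8.Bs w0E8 = true := by
  constructor <;> decide +kernel

/-- the longest word, with its action on the opposites of the fundamental roots -/
theorem opp_known (D : ChevalleyDatum)
    (hD : D ∈ [chevG2, chevB2, chevD4, chevF4, chevE6, chevE7, chevE8]) :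
    ∃ (T : FD) (Bs L : List ℕ), T.Agrees D ∧ (∀ i < D.rank, ReflChecks T D i (Bs.getD i 0)) ∧
      (∀ i ∈ L, i < D.rank) ∧ w0b D Bs L = true ∧
      (∀ j < D.rank, ∃ k < D.rank, wW Bs L (D.neg (D.simple j)) = D.simple k) ∧
      (∀ k < D.rank, ∃ j < D.rank, wW Bs L (D.neg (D.simple j)) = D.simple k) := by
  simp only [List.mem_cons, List.not_mem_nil, or_false] at hD
  rcases hD with rfl | rfl | rfl | rfl | rfl | rfl | rfl
  · exact ⟨_, _, _, DataG2.agrees, HsG2.reflBs', w0G2_lt, w0G2_check,
      oppb_spec _ _ _ oppG2.1, oppb'_spec _ _ _ oppG2.2⟩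
  · exact ⟨_, _, _, DataB2.agrees, HsB2.reflBs', w0B2_lt, w0B2_check,
      oppb_spec _ _ _ oppB2.1, oppb'_spec _ _ _ oppB2.2⟩
  · exact ⟨_, _, _, DataD4.agrees, HsD4.reflBs', w0D4_lt, w0D4_check,
      oppb_spec _ _ _ oppD4.1, oppb'_spec _ _ _ oppD4.2⟩
  · exact ⟨_, _, _, DataF4.agrees, HsF4.reflBs', w0F4_lt, w0F4_check,
      oppb_spec _ _ _ oppF4.1, oppb'_spec _ _ _ oppF4.2⟩
  · exact ⟨_, _, _, DataE6.agrees, HsE6.reflBs', w0E6_lt, w0E6_check,
      oppb_spec _ _ _ oppE6.1, oppb'_spec _ _ _ oppE6.2⟩
  · exact ⟨_, _, _, DataE7.agrees, HsE7.reflBs', w0E7_lt, w0E7_check,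
      oppb_spec _ _ _ oppE7.1, oppb'_spec _ _ _ oppE7.2⟩
  · exact ⟨_, _, _, DataE8.agrees, HsE8.reflBs', w0E8_lt, w0E8_check,
      oppb_spec _ _ _ oppE8.1, oppb'_spec _ _ _ oppE8.2⟩

/-- the fundamental roots are distinct -/
theorem simple_inj_all (D : ChevalleyDatum)
    (hD : D ∈ [chevG2, chevB2, chevD4, chevF4, chevE6, chevE7, chevE8]) :
    ∀ i < D.rank, ∀ j < D.rank, D.simple i = D.simple j → i = j := by
  simp only [List.mem_cons, List.not_mem_nil, or_false] at hD
  rcases hD with rfl | rfl | rfl | rfl | rfl | rfl | rfl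
  · decide +kernel
  · decide +kernel
  · decide +kernel
  · decide +kernel
  · decide +kernel
  · decide +kernel
  · decide +kernel

/-- the check that a fundamental root and the opposite of another one have no commutator terms -/
def commb (D : ChevalleyDatum) : Bool :=
  (List.range D.rank).all fun i => (List.range D.rank).all fun j =>
    i == j || (D.neg (D.simple j) != D.simple i && D.neg (D.simple j) != D.neg (D.simple i) &&
      (D.commTerms (D.simple i) (D.neg (D.simple j))).isEmpty)

theorem commb_spec (D : ChevalleyDatum) (h : commb D = true) (i j : ℕ) (hi : i < D.rank)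
    (hj : j < D.rank) (hij : i ≠ j) :
    D.neg (D.simple j) ≠ D.simple i ∧ D.neg (D.simple j) ≠ D.neg (D.simple i) ∧
      D.commTerms (D.simple i) (D.neg (D.simple j)) = [] := by
  unfold commb at h
  rw [List.all_eq_true] at h
  have h1 := h i (List.mem_range.2 hi)
  rw [List.all_eq_true] at h1
  have h2 := h1 j (List.mem_range.2 hj)
  simp only [Bool.or_eq_true, beq_iff_eq, Bool.and_eq_true, bne_iff_ne, ne_eq,
    List.isEmpty_iff] at h2
  rcases h2 with h2 | h2
  · exact absurd h2 hij
  · exact ⟨h2.1.1, h2.1.2, h2.2⟩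

theorem comm_simple_all (D : ChevalleyDatum)
    (hD : D ∈ [chevG2, chevB2, chevD4, chevF4, chevE6, chevE7, chevE8]) : commb D = true := by
  simp only [List.mem_cons, List.not_mem_nil, or_false] at hD
  rcases hD with rfl | rfl | rfl | rfl | rfl | rfl | rfl
  · decide +kernel
  · decide +kernel
  · decide +kernel
  · decide +kernel
  · decide +kernel
  · decide +kernel
  · decide +kernel

end Cfsg.Agent.Lib.Helper5.AutBN
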