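import Cfsg.Agent.Lib.Helper5.AutBN.Core
import Cfsg.Agent.Lib.Helper5.AutBN.ChevData
import Cfsg.Agent.Lib.Helper5.Chev.DiagChar
import Cfsg.Agent.Lib.Helper5.Chev.ChevCount
import Cfsg.Agent.Lib.Helper5.Chev.UCardAll
import Cfsg.Agent.Lib.Helper5.Chev.CmAll
import Mathlib

/-!
# Facts on the subgroups of a Chevalley group used for its automorphisms (helper5)
-/

set_option autoImplicit false

namespace Cfsg.Agent.Lib.Helper5.AutBN

open Cfsg Cfsg.Lie Cfsg.Agent.Lib.Helper5 Cfsg.Agent.Lib.Helper5.Chev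
open scoped Matrix

section

variable {F : Type*} [Field F] {T : FD} {D : ChevalleyDatum}

/-- conjugation of `U` by a word mapping the positive roots to the negative roots -/
theorem cj_nWordU_pos (hA : T.Agrees D) (hadd : AllAdd F D) (Bs : List ℕ)
    (hB : ∀ i < D.rank, ReflChecks T D i (Bs.getD i 0)) (L : List ℕ) (hL : ∀ i ∈ L, i < D.rank)
    (hc : w0b D Bs L = true) :
    cj (nWordU hA hadd L) (D.posUnipotent F) = D.negUnipotent F := by
  unfold cj
  apply le_antisymm
  · rw [Subgroup.map_le_iff_le_comap]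
    unfold ChevalleyDatum.posUnipotent
    rw [Subgroup.closure_le]
    rintro g ⟨r, t, hr, hg⟩
    have hg' : g = hadd.xU r t := Units.ext hg
    subst hg'
    show (MulAut.conj (nWordU hA hadd L)).toMonoidHom (hadd.xU r t) ∈ D.negUnipotent F
    obtain ⟨h1, t', h2⟩ := conj_word hA hadd Bs hB L hL r hr.1 t
    have : (MulAut.conj (nWordU hA hadd L)).toMonoidHom (hadd.xU r t) = hadd.xU (wW Bs L r) t' := by
      rw [← h2]; rfl
    rw [this]
    apply Subgroup.subset_closure
    exact ⟨_, t', (w0b_spec D Bs L hc r hr.1).1 hr, rfl⟩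
  · unfold ChevalleyDatum.negUnipotent
    rw [Subgroup.closure_le]
    rintro g ⟨r, t, hr, hg⟩
    have hg' : g = hadd.xU r t := Units.ext hg
    subst hg'
    obtain ⟨h1, t', h2⟩ := conj_word' hA hadd Bs hB L hL r hr.1 t
    rw [SetLike.mem_coe, Subgroup.mem_map]
    refine ⟨hadd.xU (wW' Bs L r) t', ?_, ?_⟩
    · apply Subgroup.subset_closure
      exact ⟨_, t', (w0b_spec D Bs L hc r hr.1).2 hr, rfl⟩
    · rw [← h2]
      show nWordU hA hadd L * _ * (nWordU hA hadd L)⁻¹ = _
      group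

/-- conjugation of a root subgroup by a word -/
theorem cj_nWordU_root_le (hA : T.Agrees D) (hadd : AllAdd F D) (Bs : List ℕ)
    (hB : ∀ i < D.rank, ReflChecks T D i (Bs.getD i 0)) (L : List ℕ) (hL : ∀ i ∈ L, i < D.rank)
    (s : ℕ) (hs : s < D.nroots) :
    cj (nWordU hA hadd L) (D.rootSubgroup F s) ≤ D.rootSubgroup F (wW Bs L s) := by
  unfold cj
  rintro x ⟨y, hy, rfl⟩
  rw [SetLike.mem_coe, mem_rootSubgroup_iff hadd] at hy
  obtain ⟨t, rfl⟩ := hy
  obtain ⟨h1, t', h2⟩ := conj_word hA hadd Bs hB L hL s hs t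
  show nWordU hA hadd L * hadd.xU s t * (nWordU hA hadd L)⁻¹ ∈ _
  rw [h2]
  exact xU_mem_rootSubgroup hadd _ _

end

section

variable {F : Type*} [Field F] [Finite F]

omit [Finite F] in
/-- `U` and `V` have the same order -/
theorem card_neg_eq (D : ChevalleyDatum)
    (hD : D ∈ [chevG2, chevB2, chevD4, chevF4, chevE6, chevE7, chevE8]) :
    Nat.card (D.negUnipotent F) = Nat.card (D.posUnipotent F) := by
  obtain ⟨n0, -, hn0⟩ := longest_all (F := F) D hD
  rw [← hn0]
  exact card_cj n0 _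

omit [Finite F] in
/-- `U ∩ V = 1` -/
theorem pos_inf_neg (D : ChevalleyDatum)
    (hD : D ∈ [chevG2, chevB2, chevD4, chevF4, chevE6, chevE7, chevE8]) :
    D.posUnipotent F ⊓ D.negUnipotent F = ⊥ := by
  rw [eq_bot_iff, ← (borel_inf_neg_all (F := F) D hD).1]
  exact inf_le_inf_right _ le_sup_left

/-- an element of `N` which conjugates `U` to a subgroup meeting `U` trivially conjugates `U`
to `V` -/
theorem cj_pos_eq_neg_of_inf (D : ChevalleyDatum)
    (hD : D ∈ [chevG2, chevB2, chevD4, chevF4, chevE6, chevE7, chevE8]) (n : GL D.Idx F)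
    (hn : n ∈ D.monomialSubgroup F)
    (h : cj n (D.posUnipotent F) ⊓ D.posUnipotent F = ⊥) :
    cj n (D.posUnipotent F) = D.negUnipotent F := by
  have hadd := allAdd_all (F := F) D hD
  have hH := hform_all' (F := F) D hD
  obtain ⟨T, Bs, mLL, gH, baseH, fuel, hA, hB, hr, hbase, hcox⟩ := cox_known D hD
  obtain ⟨L, hL, h0, hh0, rfl⟩ := monomial_le_NWH hA hadd Bs hB hH gH baseH fuel hr hbase hn
  -- every positive root goes to a negative root
  have hneg : ∀ r, D.IsPosRoot r → wW Bs L r < D.nroots / 2 := by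
    intro r hr
    by_contra hcon
    rw [not_lt] at hcon
    have hlt := wW_lt hA Bs hB L hL r hr.1
    obtain ⟨t', e⟩ := conj_word_diag hD hA hadd Bs hB L hL h0 hh0 r hr.1 (1 : F)
    have h1 : hadd.xU (wW Bs L r) t' ∈ cj (nWordU hA hadd L * h0) (D.posUnipotent F) := by
      rw [← e, mem_cj]
      have e6 : (nWordU hA hadd L * h0)⁻¹ * ((nWordU hA hadd L * h0) * hadd.xU r 1 *
          (nWordU hA hadd L * h0)⁻¹) * (nWordU hA hadd L * h0) = hadd.xU r 1 := by group
      rw [e6]
      exact Subgroup.subset_closure ⟨r, 1, hr, rfl⟩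
    have h2 : hadd.xU (wW Bs L r) t' ∈ D.posUnipotent F :=
      Subgroup.subset_closure ⟨_, t', (pos_iff_all D hD _ hlt).2 hcon, rfl⟩
    have h3 : hadd.xU (wW Bs L r) t' ∈
        cj (nWordU hA hadd L * h0) (D.posUnipotent F) ⊓ D.posUnipotent F := ⟨h1, h2⟩
    rw [h, Subgroup.mem_bot] at h3
    rw [h3] at e
    have e4 : hadd.xU r (1 : F) = 1 := by
      have e5 : hadd.xU r (1 : F) = (nWordU hA hadd L * h0)⁻¹ *
          (nWordU hA hadd L * h0 * hadd.xU r 1 * (nWordU hA hadd L * h0)⁻¹) *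
          (nWordU hA hadd L * h0) := by group
      rw [e5, e]
      group
    exact one_ne_zero (xInj_all (F := F) D hD r hr.1 1 (congrArg Units.val e4))
  -- `U^n ≤ V`
  have hle : cj (nWordU hA hadd L * h0) (D.posUnipotent F) ≤ D.negUnipotent F := by
    unfold cj
    rw [Subgroup.map_le_iff_le_comap]
    unfold ChevalleyDatum.posUnipotent
    rw [Subgroup.closure_le]
    rintro g ⟨r, t, hr, hg⟩
    have hmap := (map_root_le_neg_iff hD hA hadd Bs hB L hL h0 hh0 r hr.1).2 (hneg r hr)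
    rw [SetLike.mem_coe, Subgroup.mem_comap]
    apply hmap
    exact Subgroup.mem_map_of_mem _ (Subgroup.subset_closure ⟨t, hg⟩)
  have : Finite (D.negUnipotent F) := inferInstance
  apply Subgroup.eq_of_le_of_card_ge hle
  rw [card_cj, card_neg_eq D hD]

/-- an element of the group which conjugates `U` to a subgroup meeting `B` trivially conjugates
`U` to a conjugate of `V` under `B` -/
theorem exists_borel_conj (D : ChevalleyDatum)
    (hD : D ∈ [chevG2, chevB2, chevD4, chevF4, chevE6, chevE7, chevE8]) (g : GL D.Idx F)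
    (hg : g ∈ D.group F)
    (h : cj g (D.posUnipotent F) ⊓ D.borelSubgroup F = ⊥) :
    ∃ b ∈ D.borelSubgroup F, cj g (D.posUnipotent F) = cj b (D.negUnipotent F) := by
  obtain ⟨b, hb, n, hn, u, hu, e⟩ := bruhat_exists_all D hD g hg
  have huU := uneg_le_pos D n hu
  have hUB : D.posUnipotent F ≤ D.borelSubgroup F := le_sup_left
  have e1 : cj g (D.posUnipotent F) = cj b (cj n (D.posUnipotent F)) := by
    rw [e, ← cj_mul, ← cj_mul, cj_of_mem_normalizer (Subgroup.le_normalizer huU)]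
  have hbB : cj b (D.borelSubgroup F) = D.borelSubgroup F :=
    cj_of_mem_normalizer (Subgroup.le_normalizer hb)
  have h2 : cj n (D.posUnipotent F) ⊓ D.borelSubgroup F = ⊥ := by
    apply eq_bot_of_cj_eq_bot (g := b)
    rw [cj_inf, hbB, ← e1]
    exact h
  have h3 : cj n (D.posUnipotent F) ⊓ D.posUnipotent F = ⊥ := by
    rw [eq_bot_iff, ← h2]
    exact inf_le_inf_left _ hUB
  refine ⟨b, hb, ?_⟩
  rw [e1, cj_pos_eq_neg_of_inf D hD n hn h3]

/-- the longest element: it exchanges `U` and `V` and maps the opposite fundamental root subgroups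
onto the fundamental root subgroups -/
theorem exists_longest (D : ChevalleyDatum)
    (hD : D ∈ [chevG2, chevB2, chevD4, chevF4, chevE6, chevE7, chevE8]) :
    ∃ n0 ∈ D.monomialSubgroup F,
      cj n0 (D.posUnipotent F) = D.negUnipotent F ∧
      cj n0 (D.negUnipotent F) = D.posUnipotent F ∧
      (∀ j < D.rank, ∃ k < D.rank,
        cj n0 (D.rootSubgroup F (D.neg (D.simple j))) = D.rootSubgroup F (D.simple k)) ∧
      (∀ k < D.rank, ∃ j < D.rank,
        cj n0 (D.rootSubgroup F (D.neg (D.simple j))) = D.rootSubgroup F (D.simple k)) := by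
  have hadd := allAdd_all (F := F) D hD
  obtain ⟨T, Bs, L, hA, hB, hL, hw0, ho1, ho2⟩ := opp_known D hD
  have hUV := cj_nWordU_pos (F := F) hA hadd Bs hB L hL hw0
  have hn0 : nWordU hA hadd L ∈ D.monomialSubgroup F := nWordU_mem hA hadd L
  have hroot : ∀ j < D.rank, ∀ k < D.rank, wW Bs L (D.neg (D.simple j)) = D.simple k →
      cj (nWordU hA hadd L) (D.rootSubgroup F (D.neg (D.simple j)))
        = D.rootSubgroup F (D.simple k) := by
    intro j hj k hk e
    obtain ⟨-, hq⟩ := simple_lt_all D hD j hj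
    obtain ⟨hp, -⟩ := simple_lt_all D hD k hk
    have hle := cj_nWordU_root_le (F := F) hA hadd Bs hB L hL _ hq
    rw [e] at hle
    have : Finite (D.rootSubgroup F (D.simple k)) := inferInstance
    apply Subgroup.eq_of_le_of_card_ge hle
    rw [card_cj, card_rootSubgroup hadd _ (xInj_all D hD _ hp),
      card_rootSubgroup hadd _ (xInj_all D hD _ hq)]
  refine ⟨nWordU hA hadd L, hn0, hUV, ?_, ?_, ?_⟩
  · -- `V^{n0} = U`
    have h1 : cj (nWordU hA hadd L)⁻¹ (D.posUnipotent F) ⊓ D.posUnipotent F = ⊥ := by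
      apply eq_bot_of_cj_eq_bot (g := nWordU hA hadd L)
      rw [cj_inf, cj_cj_inv, hUV]
      exact pos_inf_neg D hD
    have h2 := cj_pos_eq_neg_of_inf D hD _ (Subgroup.inv_mem _ hn0) h1
    rw [← h2, cj_cj_inv]
  · intro j hj
    obtain ⟨k, hk, e⟩ := ho1 j hj
    exact ⟨k, hk, hroot j hj k hk e⟩
  · intro k hk
    obtain ⟨j, hj, e⟩ := ho2 k hk
    exact ⟨j, hj, hroot j hj k hk e⟩

end

end Cfsg.Agent.Lib.Helper5.AutBN
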