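import Cfsg.Agent.Lib.Helper5.AutBN.ChevFacts
import Cfsg.Agent.Lib.Helper5.Chev.RankOne
import Mathlib

/-!
# Fundamental root subgroups and minimal parabolic subgroups of a Chevalley group (helper5)
-/

set_option autoImplicit false

namespace Cfsg.Agent.Lib.Helper5.AutBN

open Cfsg Cfsg.Lie Cfsg.Agent.Lib.Helper5 Cfsg.Agent.Lib.Helper5.Chev
open scoped Matrix

section

variable {F : Type*} [Field F]

/-- a fundamental root element commutes with the opposite of another fundamental root element -/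
theorem comm_simple_neg (D : ChevalleyDatum)
    (hD : D ∈ [chevG2, chevB2, chevD4, chevF4, chevE6, chevE7, chevE8]) (hadd : AllAdd F D)
    (i j : ℕ) (hi : i < D.rank) (hj : j < D.rank) (hij : i ≠ j) (t u : F) :
    hadd.xU (D.simple i) t * hadd.xU (D.neg (D.simple j)) u
      = hadd.xU (D.neg (D.simple j)) u * hadd.xU (D.simple i) t := by
  obtain ⟨hne1, hne2, hnil⟩ := commb_spec D (comm_simple_all D hD) i j hi hj hij
  obtain ⟨hp, -⟩ := simple_lt_all D hD i hi
  obtain ⟨-, hq⟩ := simple_lt_all D hD j hj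
  rcases comm_known (F := F) D hD _ hp _ hq with h | h | h
  · exact absurd h hne1
  · exact absurd h hne2
  · have := h t u
    unfold ChevalleyDatum.commWord at this
    rw [hnil] at this
    simp only [List.map_nil, ChevalleyDatum.wordMat, List.prod_nil, mul_one] at this
    apply Units.ext
    rw [Units.val_mul, Units.val_mul]
    exact this.symm

/-- `x_p(1)` and `x_{-p}(-1)` do not commute -/
theorem not_comm_simple (D : ChevalleyDatum)
    (hD : D ∈ [chevG2, chevB2, chevD4, chevF4, chevE6, chevE7, chevE8]) (hadd : AllAdd F D)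
    (i : ℕ) (hi : i < D.rank) :
    hadd.xU (D.simple i) 1 * hadd.xU (D.neg (D.simple i)) (-1)
      ≠ hadd.xU (D.neg (D.simple i)) (-1) * hadd.xU (D.simple i) 1 := by
  intro hcomm
  obtain ⟨T, Bs, mLL, gH, baseH, fuel, hA, hB, hr, hbase, hcox⟩ := cox_known D hD
  obtain ⟨hc1, -⟩ := cox_of_check T Bs mLL hcox
  obtain ⟨hp, hq⟩ := simple_lt_all D hD i hi
  have hc : Commute (hadd.xU (D.simple i) (1 : F)) (hadd.xU (D.neg (D.simple i)) (-1)) := hcomm
  have hn : hadd.nU (D.simple i) hp hq = hadd.xU (D.simple i) 1 *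
      (hadd.xU (D.neg (D.simple i)) (-1) * hadd.xU (D.simple i) 1) := by
    apply Units.ext
    rw [Units.val_mul, Units.val_mul]
    exact nMat_one (D.simple i)
  have hcn : Commute (hadd.xU (D.simple i) (1 : F)) (hadd.nU (D.simple i) hp hq) := by
    rw [hn]
    exact (Commute.refl _).mul_right (hc.mul_right (Commute.refl _))
  have h1 := nU_conj_xU hA hadd i _ hi (hB i hi) hp hq (1 : F)
  have h2 : hadd.nU (D.simple i) hp hq * hadd.xU (D.simple i) 1 *
      (hadd.nU (D.simple i) hp hq)⁻¹ = hadd.xU (D.simple i) 1 := by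
    rw [← hcn.eq, mul_assoc, mul_inv_cancel, mul_one]
  rw [h2] at h1
  have hU : hadd.xU (D.simple i) (1 : F) ∈ D.posUnipotent F :=
    Subgroup.subset_closure ⟨_, 1, pos_simple_all D hD i hi, rfl⟩
  have hV : hadd.xU (D.simple i) (1 : F) ∈ D.negUnipotent F := by
    rw [h1]
    exact Subgroup.subset_closure ⟨_, _, neg_simple_isNeg hD hA Bs hc1 hi, rfl⟩
  have hbot : hadd.xU (D.simple i) (1 : F) ∈ D.posUnipotent F ⊓ D.negUnipotent F := ⟨hU, hV⟩
  rw [pos_inf_neg D hD, Subgroup.mem_bot] at hbot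
  exact one_ne_zero (xInj_all (F := F) D hD _ hp 1 (congrArg Units.val hbot))

/-- the elements `n_i` are distinct -/
theorem nUi_injective {T : FD} (D : ChevalleyDatum)
    (hD : D ∈ [chevG2, chevB2, chevD4, chevF4, chevE6, chevE7, chevE8]) (hA : T.Agrees D)
    (hadd : AllAdd F D) (i j : ℕ) (hi : i < D.rank) (hj : j < D.rank)
    (h : nUi hA hadd i = nUi hA hadd j) : i = j := by
  by_contra hij
  obtain ⟨T', Bs, mLL, gH, baseH, fuel, hA', hB, hr, hbase, hcox⟩ := cox_known D hD
  obtain ⟨hc1, -⟩ := cox_of_check T' Bs mLL hcox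
  obtain ⟨hp, hq⟩ := simple_lt_all D hD i hi
  have hne : D.simple i ≠ D.simple j := fun e => hij (simple_inj_all D hD i hi j hj e)
  have hx : hadd.xU (D.simple i) (1 : F) ∈ Subgroup.closure (compSet F D (D.simple j)) :=
    xU_mem_comp hadd _ _ (pos_simple_all D hD i hi) hne 1
  have hnj := nUi_mem_normalizer_comp hD hA hadd j hj
  have h1 := (conj_mem_of_normalizer _ _ _ hnj hx).1
  rw [← h, nUi_pos hA hadd hi, nU_conj_xU hA' hadd i _ hi (hB i hi) hp hq (1 : F)] at h1
  have hle : Subgroup.closure (compSet F D (D.simple j)) ≤ D.posUnipotent F := by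
    apply Subgroup.closure_mono
    rintro g ⟨s, t, hs, -, hg⟩
    exact ⟨s, t, hs, hg⟩
  have hV : hadd.xU (D.neg (D.simple i)) (((etaOf (Bs.getD i 0) (D.simple i) : ℤ) : F) * 1)
      ∈ D.negUnipotent F :=
    Subgroup.subset_closure ⟨_, _, neg_simple_isNeg hD hA' Bs hc1 hi, rfl⟩
  have hbot : hadd.xU (D.neg (D.simple i)) (((etaOf (Bs.getD i 0) (D.simple i) : ℤ) : F) * 1)
      ∈ D.posUnipotent F ⊓ D.negUnipotent F := ⟨hle h1, hV⟩
  rw [pos_inf_neg D hD, Subgroup.mem_bot] at hbot
  have h0 := xInj_all (F := F) D hD _ hq _ (congrArg Units.val hbot)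
  rw [mul_one] at h0
  rcases etaOf_pm (Bs.getD i 0) (D.simple i) with h3 | h3 <;> rw [h3] at h0 <;> simp at h0

end

section

variable {F : Type*} [Field F] [Finite F]

/-- the intersection of a minimal parabolic subgroup with `V` is the opposite fundamental root
subgroup -/
theorem parabolic_inf_neg (D : ChevalleyDatum)
    (hD : D ∈ [chevG2, chevB2, chevD4, chevF4, chevE6, chevE7, chevE8]) (i : ℕ) (hi : i < D.rank) :
    D.parabolicSubgroup F {i} ⊓ D.negUnipotent F = D.rootSubgroup F (D.neg (D.simple i)) := by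
  have hadd := allAdd_all (F := F) D hD
  obtain ⟨T, Bs, mLL, gH, baseH, fuel, hA, hB, hr, hbase, hcox⟩ := cox_known D hD
  obtain ⟨hc1, -⟩ := cox_of_check T Bs mLL hcox
  obtain ⟨hp, hq⟩ := simple_lt_all D hD i hi
  have hUB : D.posUnipotent F ≤ D.borelSubgroup F := le_sup_left
  set n := nUi hA hadd i with hn
  have hnval : ((n : GL D.Idx F) : Matrix D.Idx D.Idx F) = D.nMat F (D.simple i) 1 :=
    nUi_val hA hadd hi
  obtain ⟨P', hP'⟩ := rank_one_all D hD i hi n hnval
  have hBP' : D.borelSubgroup F ≤ P' := by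
    intro x hx
    rw [← SetLike.mem_coe, hP']
    exact Or.inl hx
  have hnP' : n ∈ P' := by
    rw [← SetLike.mem_coe, hP']
    exact Or.inr (DoubleCoset.mem_doubleCoset_self _ _ n)
  have hBpar : D.borelSubgroup F ≤ D.parabolicSubgroup F {i} := le_sup_left
  have hnpar : n ∈ D.parabolicSubgroup F {i} := by
    apply Subgroup.mem_sup_right
    exact Subgroup.subset_closure ⟨i, rfl, hi, hnval⟩
  have hle : D.parabolicSubgroup F {i} ≤ P' := by
    unfold ChevalleyDatum.parabolicSubgroup
    apply sup_le hBP'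
    rw [Subgroup.closure_le]
    rintro g ⟨j, hj, -, hg⟩
    rw [Set.mem_singleton_iff] at hj
    subst hj
    have : g = n := Units.ext (hg.trans hnval.symm)
    rw [this]
    exact hnP'
  -- the root subgroup lies in the intersection
  have hη : ∀ t : F, hadd.xU (D.neg (D.simple i)) t
      = n * hadd.xU (D.simple i) (((etaOf (Bs.getD i 0) (D.simple i) : ℤ) : F) * t) * n⁻¹ := by
    intro t
    rw [hn, nUi_pos hA hadd hi, nU_conj_xU hA hadd i _ hi (hB i hi) hp hq, ← mul_assoc]
    congr 1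
    rcases etaOf_pm (Bs.getD i 0) (D.simple i) with h3 | h3 <;> rw [h3] <;> simp
  have hXle : D.rootSubgroup F (D.neg (D.simple i))
      ≤ D.parabolicSubgroup F {i} ⊓ D.negUnipotent F := by
    intro x hx
    rw [mem_rootSubgroup_iff hadd] at hx
    obtain ⟨t, rfl⟩ := hx
    constructor
    · rw [hη t]
      apply Subgroup.mul_mem _ (Subgroup.mul_mem _ hnpar _) (Subgroup.inv_mem _ hnpar)
      exact hBpar (hUB (Subgroup.subset_closure ⟨_, _, pos_simple_all D hD i hi, rfl⟩))
    · exact Subgroup.subset_closure ⟨_, t, neg_simple_isNeg hD hA Bs hc1 hi, rfl⟩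
  -- the count
  set M := D.parabolicSubgroup F {i} ⊓ D.negUnipotent F with hM
  have hcardP' : Nat.card P' ≤ (1 + Nat.card F) * Nat.card (D.borelSubgroup F) := by
    have e1 : Nat.card P' = (P' : Set (GL D.Idx F)).ncard := Nat.card_coe_set_eq _
    have e2 : Nat.card (D.borelSubgroup F) = (D.borelSubgroup F : Set (GL D.Idx F)).ncard :=
      Nat.card_coe_set_eq _
    have e3 := card_dc_nUi (F := F) hD hA hadd Bs hB hc1 hi
    rw [Nat.card_coe_set_eq] at e3
    rw [e1, hP', add_mul, one_mul, ← e3, e2]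
    exact Set.ncard_union_le _ _
  have hinj : Function.Injective (fun q : ↥M × ↥(D.borelSubgroup F) =>
      (⟨(q.1 : GL D.Idx F) * (q.2 : GL D.Idx F),
        Subgroup.mul_mem _ (hle q.1.2.1) (hBP' q.2.2)⟩ : ↥P')) := by
    rintro ⟨m, b⟩ ⟨m', b'⟩ h
    have h1 : (m : GL D.Idx F) * (b : GL D.Idx F) = (m' : GL D.Idx F) * (b' : GL D.Idx F) :=
      congrArg Subtype.val h
    have h2 : (b' : GL D.Idx F) * (b : GL D.Idx F)⁻¹ = (m' : GL D.Idx F)⁻¹ * (m : GL D.Idx F) := by
      have : (m : GL D.Idx F) = (m' : GL D.Idx F) * (b' : GL D.Idx F) * (b : GL D.Idx F)⁻¹ := by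
        rw [← h1]
        group
      rw [this]
      group
    have hbot : (m' : GL D.Idx F)⁻¹ * (m : GL D.Idx F) ∈ D.borelSubgroup F ⊓ D.negUnipotent F := by
      constructor
      · rw [← h2]
        exact Subgroup.mul_mem _ b'.2 (Subgroup.inv_mem _ b.2)
      · exact Subgroup.mul_mem _ (Subgroup.inv_mem _ m'.2.2) m.2.2
    rw [(borel_inf_neg_all D hD).1, Subgroup.mem_bot] at hbot
    have hm : (m : GL D.Idx F) = m' := by
      have : (m : GL D.Idx F) = (m' : GL D.Idx F) * ((m' : GL D.Idx F)⁻¹ * (m : GL D.Idx F)) := by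
        group
      rw [this, hbot, mul_one]
    have hb : (b : GL D.Idx F) = b' := by
      rw [hm] at h1
      exact mul_left_cancel h1
    rw [Prod.mk.injEq]
    exact ⟨Subtype.ext hm, Subtype.ext hb⟩
  have hcard1 : Nat.card M * Nat.card (D.borelSubgroup F) ≤ Nat.card P' := by
    rw [← Nat.card_prod]
    exact Nat.card_le_card_of_injective _ hinj
  have hBpos : 0 < Nat.card (D.borelSubgroup F) := Nat.card_pos
  have hcardM : Nat.card M ≤ 1 + Nat.card F :=
    Nat.le_of_mul_le_mul_right (hcard1.trans hcardP') hBpos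
  have hcardX : Nat.card (D.rootSubgroup F (D.neg (D.simple i))) = Nat.card F :=
    card_rootSubgroup hadd _ (xInj_all D hD _ hq)
  have hdvd : Nat.card F ∣ Nat.card M := by
    rw [← hcardX]
    exact Subgroup.card_dvd_of_le hXle
  have hq2 : 2 ≤ Nat.card F := Finite.one_lt_card
  have hMpos : 0 < Nat.card M := Nat.card_pos
  have hMeq : Nat.card M = Nat.card F := by
    obtain ⟨k, hk⟩ := hdvd
    rw [hk] at hcardM hMpos
    have hk1 : 1 ≤ k := by
      rcases Nat.eq_zero_or_pos k with h0 | h0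
      · rw [h0, mul_zero] at hMpos
        exact absurd hMpos (lt_irrefl 0)
      · exact h0
    have hk2 : k < 2 := by
      by_contra hcon
      rw [not_lt] at hcon
      have : Nat.card F * 2 ≤ Nat.card F * k := Nat.mul_le_mul_left _ hcon
      omega
    have : k = 1 := by omega
    rw [hk, this, mul_one]
  symm
  have : Finite M := inferInstance
  apply Subgroup.eq_of_le_of_card_ge hXle
  rw [hcardX, hMeq]

end

end Cfsg.Agent.Lib.Helper5.AutBN
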