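import Cfsg.Agent.Lib.Helper5.AutBN.Chev
import Mathlib

/-!
# Normal form of an automorphism of a Chevalley group: the action on the fundamental root
elements (helper5)

After composing with an inner automorphism, an automorphism of `D.group F` maps
`x_{± p_i}(t)` to `x_{± p_{ρ i}}(φ^±_i t)` for a permutation `ρ` of the nodes and additive
bijections `φ^±_i` of `F`.
-/

set_option autoImplicit false

namespace Cfsg.Agent.Lib.Helper5.AutBN

open Cfsg Cfsg.Lie Cfsg.Agent.Lib.Helper5 Cfsg.Agent.Lib.Helper5.Chev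
open scoped Matrix

section

variable {F : Type*} [Field F]

/-- an automorphism mapping the root subgroup `X_r` onto `X_{r'}` is given on `X_r` by an additive
bijection of the field -/
theorem exists_addEquiv_of_map_root (D : ChevalleyDatum)
    (hD : D ∈ [chevG2, chevB2, chevD4, chevF4, chevE6, chevE7, chevE8]) (r r' : ℕ)
    (hr : r < D.nroots) (hr' : r' < D.nroots) (θ' : ↥(D.group F) ≃* ↥(D.group F))
    (h : ((D.rootSubgroup F r).subgroupOf (D.group F)).map θ'.toMonoidHom
      = (D.rootSubgroup F r').subgroupOf (D.group F)) :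
    ∃ φ : F ≃+ F, ∀ (g : ↥(D.group F)) (t : F),
      ((g : GL D.Idx F) : Matrix D.Idx D.Idx F) = D.x F r t →
      ((θ' g : GL D.Idx F) : Matrix D.Idx D.Idx F) = D.x F r' (φ t) := by
  have hadd := allAdd_all (F := F) D hD
  have hinj := xInj_all (F := F) D hD r hr
  have hinj' := xInj_all (F := F) D hD r' hr'
  let gt : F → ↥(D.group F) := fun t => ⟨hadd.xU r t, hadd.xU_mem_group r t⟩
  have hgt : ∀ t, gt t ∈ (D.rootSubgroup F r).subgroupOf (D.group F) := by
    intro t
    rw [Subgroup.mem_subgroupOf]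
    exact xU_mem_rootSubgroup hadd r t
  have hex : ∀ t : F, ∃ t' : F, ((θ' (gt t) : ↥(D.group F)) : GL D.Idx F) = hadd.xU r' t' := by
    intro t
    have h1 : θ' (gt t) ∈ ((D.rootSubgroup F r).subgroupOf (D.group F)).map θ'.toMonoidHom :=
      Subgroup.mem_map_of_mem _ (hgt t)
    rw [h, Subgroup.mem_subgroupOf, mem_rootSubgroup_iff hadd] at h1
    exact h1
  choose φ hφ using hex
  have hφadd : ∀ t u, φ (t + u) = φ t + φ u := by
    intro t u
    apply xU_injective hadd r' hinj'
    rw [← hφ, ← xU_mul, ← hφ, ← hφ, ← Subgroup.coe_mul, ← map_mul]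
    congr 2
    apply Subtype.ext
    show hadd.xU r (t + u) = hadd.xU r t * hadd.xU r u
    rw [xU_mul]
  have hφinj : Function.Injective φ := by
    intro t u e
    have h1 : ((θ' (gt t) : ↥(D.group F)) : GL D.Idx F) = ((θ' (gt u) : ↥(D.group F)) : GL D.Idx F) := by
      rw [hφ, hφ, e]
    have h2 : gt t = gt u := θ'.injective (Subtype.ext h1)
    exact xU_injective hadd r hinj t u (congrArg Subtype.val h2)
  have hφsurj : Function.Surjective φ := by
    intro t'
    have h1 : (⟨hadd.xU r' t', hadd.xU_mem_group r' t'⟩ : ↥(D.group F))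
        ∈ (D.rootSubgroup F r').subgroupOf (D.group F) := by
      rw [Subgroup.mem_subgroupOf]
      exact xU_mem_rootSubgroup hadd r' t'
    rw [← h] at h1
    obtain ⟨g, hg, e⟩ := h1
    rw [SetLike.mem_coe, Subgroup.mem_subgroupOf, mem_rootSubgroup_iff hadd] at hg
    obtain ⟨t, ht⟩ := hg
    refine ⟨t, ?_⟩
    apply xU_injective hadd r' hinj'
    rw [← hφ]
    have : gt t = g := Subtype.ext ht.symm
    rw [this]
    exact congrArg Subtype.val e
  refine ⟨AddEquiv.ofBijective (AddMonoidHom.mk' φ hφadd) ⟨hφinj, hφsurj⟩, ?_⟩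
  intro g t hg
  have : g = gt t := by
    apply Subtype.ext
    apply Units.ext
    rw [hg]
    rfl
  rw [this, hφ]
  rfl

end

section

variable {F : Type*} [Field F] [Finite F]

/-- the normal form of an automorphism: root element version -/
theorem exists_aut_root_form (D : ChevalleyDatum)
    (hD : D ∈ [chevG2, chevB2, chevD4, chevF4, chevE6, chevE7, chevE8])
    (θ : ↥(D.group F) ≃* ↥(D.group F)) :
    ∃ (x : ↥(D.group F)) (ρ : Equiv.Perm (Fin D.rank)) (φp φm : Fin D.rank → F ≃+ F),
      (∀ (i : Fin D.rank) (g : ↥(D.group F)) (t : F),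
        ((g : GL D.Idx F) : Matrix D.Idx D.Idx F) = D.x F (D.simple i) t →
        (((θ.trans (MulAut.conj x⁻¹)) g : GL D.Idx F) : Matrix D.Idx D.Idx F)
          = D.x F (D.simple (ρ i)) (φp i t)) ∧
      (∀ (i : Fin D.rank) (g : ↥(D.group F)) (t : F),
        ((g : GL D.Idx F) : Matrix D.Idx D.Idx F) = D.x F (D.neg (D.simple i)) t →
        (((θ.trans (MulAut.conj x⁻¹)) g : GL D.Idx F) : Matrix D.Idx D.Idx F)
          = D.x F (D.neg (D.simple (ρ i))) (φm i t)) ∧
      ((D.posUnipotent F).subgroupOf (D.group F)).map (θ.trans (MulAut.conj x⁻¹)).toMonoidHom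
        = (D.posUnipotent F).subgroupOf (D.group F) ∧
      ((D.negUnipotent F).subgroupOf (D.group F)).map (θ.trans (MulAut.conj x⁻¹)).toMonoidHom
        = (D.negUnipotent F).subgroupOf (D.group F) ∧
      ((D.borelSubgroup F).subgroupOf (D.group F)).map (θ.trans (MulAut.conj x⁻¹)).toMonoidHom
        = (D.borelSubgroup F).subgroupOf (D.group F) := by
  obtain ⟨x, ρ, h1, h2, h3, h5, h6⟩ := exists_aut_normal_form D hD θ
  have hp : ∀ i : Fin D.rank, ∃ φ : F ≃+ F, ∀ (g : ↥(D.group F)) (t : F),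
      ((g : GL D.Idx F) : Matrix D.Idx D.Idx F) = D.x F (D.simple i) t →
      (((θ.trans (MulAut.conj x⁻¹)) g : GL D.Idx F) : Matrix D.Idx D.Idx F)
        = D.x F (D.simple (ρ i)) (φ t) := fun i =>
    exists_addEquiv_of_map_root D hD _ _ (simple_lt_all D hD i i.2).1
      (simple_lt_all D hD (ρ i) (ρ i).2).1 _ (h5 i)
  have hm : ∀ i : Fin D.rank, ∃ φ : F ≃+ F, ∀ (g : ↥(D.group F)) (t : F),
      ((g : GL D.Idx F) : Matrix D.Idx D.Idx F) = D.x F (D.neg (D.simple i)) t →
      (((θ.trans (MulAut.conj x⁻¹)) g : GL D.Idx F) : Matrix D.Idx D.Idx F)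
        = D.x F (D.neg (D.simple (ρ i))) (φ t) := fun i =>
    exists_addEquiv_of_map_root D hD _ _ (simple_lt_all D hD i i.2).2
      (simple_lt_all D hD (ρ i) (ρ i).2).2 _ (h6 i)
  choose φp hφp using hp
  choose φm hφm using hm
  exact ⟨x, ρ, φp, φm, hφp, hφm, h1, h2, h3⟩

/-- the value of the modified automorphism -/
theorem trans_conj_apply {G : Type*} [Group G] (θ : G ≃* G) (x y : G) :
    (θ.trans (MulAut.conj x⁻¹)) y = x⁻¹ * θ y * x := by
  simp [MulEquiv.trans_apply]

end

end Cfsg.Agent.Lib.Helper5.AutBN
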