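import Cfsg.Agent.Lib.Helper5.AutBN.Perm
import Mathlib

/-!
# Normal form of an automorphism of a finite group with a split `(B, N)`-pair (helper5)

After composing with an inner automorphism, an automorphism fixes `U`, `V`, `B`, permutes the
parabolic subgroups and permutes the fundamental root subgroups and their opposites by the same
permutation.
-/

set_option autoImplicit false

namespace Cfsg.Agent.Lib.Helper5.AutBN

open Cfsg Cfsg.Agent.Lib.Helper5

variable {G : Type*} [Group G]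

/-- the conjugate `g K g⁻¹` -/
def cj (g : G) (K : Subgroup G) : Subgroup G := K.map (MulAut.conj g).toMonoidHom

theorem mem_cj {g x : G} {K : Subgroup G} : x ∈ cj g K ↔ g⁻¹ * x * g ∈ K := by
  unfold cj
  constructor
  · rintro ⟨y, hy, rfl⟩
    have : g⁻¹ * (MulAut.conj g).toMonoidHom y * g = y := by
      show g⁻¹ * (g * y * g⁻¹) * g = y
      group
    rwa [this]
  · intro h
    refine ⟨g⁻¹ * x * g, h, ?_⟩
    show g * (g⁻¹ * x * g) * g⁻¹ = x
    group

theorem cj_mul (g h : G) (K : Subgroup G) : cj g (cj h K) = cj (g * h) K := by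
  ext x
  rw [mem_cj, mem_cj, mem_cj]
  have : h⁻¹ * (g⁻¹ * x * g) * h = (g * h)⁻¹ * x * (g * h) := by group
  rw [this]

theorem cj_one (K : Subgroup G) : cj 1 K = K := by
  ext x
  rw [mem_cj]
  simp

theorem cj_inv_cj (g : G) (K : Subgroup G) : cj g⁻¹ (cj g K) = K := by
  rw [cj_mul, inv_mul_cancel, cj_one]

theorem cj_cj_inv (g : G) (K : Subgroup G) : cj g (cj g⁻¹ K) = K := by
  rw [cj_mul, mul_inv_cancel, cj_one]

theorem cj_inf (g : G) (K L : Subgroup G) : cj g (K ⊓ L) = cj g K ⊓ cj g L := by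
  ext x
  simp only [mem_cj, Subgroup.mem_inf]

theorem cj_bot (g : G) : cj g (⊥ : Subgroup G) = ⊥ := by
  unfold cj
  exact Subgroup.map_bot _

theorem card_cj (g : G) (K : Subgroup G) : Nat.card (cj g K) = Nat.card K := by
  unfold cj
  exact Nat.card_congr (K.equivMapOfInjective _ (MulAut.conj g).injective).symm.toEquiv

theorem eq_bot_of_cj_eq_bot {g : G} {K : Subgroup G} (h : cj g K = ⊥) : K = ⊥ := by
  have := congrArg (cj g⁻¹) h
  rwa [cj_inv_cj, cj_bot] at this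

theorem cj_mono (g : G) {K L : Subgroup G} (h : K ≤ L) : cj g K ≤ cj g L := Subgroup.map_mono h

theorem cj_of_mem_normalizer {g : G} {K : Subgroup G}
    (hg : g ∈ Subgroup.normalizer (K : Set G)) : cj g K = K := by
  ext x
  rw [mem_cj]
  have := Subgroup.mem_normalizer_iff.1 hg (g⁻¹ * x * g)
  rw [this]
  have e : g * (g⁻¹ * x * g) * g⁻¹ = x := by group
  rw [e]

theorem map_cj (θ : G ≃* G) (g : G) (K : Subgroup G) :
    (cj g K).map θ.toMonoidHom = cj (θ g) (K.map θ.toMonoidHom) := by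
  ext x
  rw [Subgroup.mem_map, mem_cj, Subgroup.mem_map]
  constructor
  · rintro ⟨y, hy, rfl⟩
    rw [mem_cj] at hy
    refine ⟨_, hy, ?_⟩
    simp
  · rintro ⟨y, hy, e⟩
    refine ⟨g * y * g⁻¹, ?_, ?_⟩
    · rw [mem_cj]
      have : g⁻¹ * (g * y * g⁻¹) * g = y := by group
      rwa [this]
    · show θ (g * y * g⁻¹) = x
      rw [map_mul, map_mul, map_inv]
      have e' : θ y = (θ g)⁻¹ * x * θ g := e
      rw [e']
      group

theorem normalizer_cj (g : G) (K : Subgroup G) :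
    Subgroup.normalizer ((cj g K : Subgroup G) : Set G)
      = cj g (Subgroup.normalizer (K : Set G)) := by
  unfold cj
  exact (Subgroup.map_equiv_normalizer_eq K (MulAut.conj g)).symm

theorem map_trans_conj (θ : G ≃* G) (x : G) (K : Subgroup G) :
    K.map (θ.trans (MulAut.conj x)).toMonoidHom = cj x (K.map θ.toMonoidHom) := by
  unfold cj
  rw [Subgroup.map_map]
  rfl

theorem map_conj_trans (θ : G ≃* G) (x : G) (K : Subgroup G) :
    K.map ((MulAut.conj x : G ≃* G).trans θ).toMonoidHom = (cj x K).map θ.toMonoidHom := by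
  unfold cj
  rw [Subgroup.map_map]
  rfl

/-- the image of a Sylow subgroup under an automorphism is a conjugate -/
theorem exists_map_eq_cj [Finite G] (p : ℕ) [Fact p.Prime] (U : Subgroup G) (hU : IsPGroup p U)
    (hidx : ¬ p ∣ U.index) (θ : G ≃* G) : ∃ x : G, U.map θ.toMonoidHom = cj x U := by
  have hU' : IsPGroup p (U.map θ.toMonoidHom) := hU.map θ.toMonoidHom
  have hidx' : ¬ p ∣ (U.map θ.toMonoidHom).index := by
    have h := Subgroup.index_map_equiv (H := U) θ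
    have h' : (U.map θ.toMonoidHom).index = U.index := h
    rw [h']
    exact hidx
  obtain ⟨g, hg⟩ := MulAction.exists_smul_eq G (hU.toSylow hidx) (hU'.toSylow hidx')
  refine ⟨g, ?_⟩
  have h1 : ((g • hU.toSylow hidx : Sylow p G) : Subgroup G) = U.map θ.toMonoidHom := by
    rw [hg]
    rfl
  rw [← h1, Sylow.coe_subgroup_smul]
  rfl

/-- the normal form -/
theorem exists_normal_form [Finite G] (P : BNPair G) (p : ℕ) [Fact p.Prime] {ι : Type*}
    (s : ι → G) (U V : Subgroup G) (n0 : G) (Xp Xm : ι → Subgroup G)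
    (hinj : Function.Injective s) (hS : Set.range s = P.S)
    (hUp : IsPGroup p U) (hidx : ¬ p ∣ U.index)
    (hnorm : Subgroup.normalizer (U : Set G) = P.B)
    (hUV : cj n0 U = V) (hVU : cj n0 V = U)
    (hBV : P.B ⊓ V = ⊥)
    (hopp : ∀ g : G, cj g U ⊓ P.B = ⊥ → ∃ b ∈ P.B, cj g U = cj b V)
    (hXm : ∀ i, Xm i = P.parabolic {s i} ⊓ V)
    (hopp1 : ∀ i, ∃ j, cj n0 (Xm j) = Xp i)
    (hopp2 : ∀ j, ∃ i, cj n0 (Xm j) = Xp i)
    (hcomm : ∀ i j, i ≠ j → ∀ x ∈ Xp i, ∀ y ∈ Xm j, x * y = y * x)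
    (hncomm : ∀ i, ∃ x ∈ Xp i, ∃ y ∈ Xm i, x * y ≠ y * x)
    (θ : G ≃* G) :
    ∃ (x : G) (ρ : Equiv.Perm ι),
      U.map (θ.trans (MulAut.conj x⁻¹)).toMonoidHom = U ∧
      V.map (θ.trans (MulAut.conj x⁻¹)).toMonoidHom = V ∧
      P.B.map (θ.trans (MulAut.conj x⁻¹)).toMonoidHom = P.B ∧
      (∀ J : Set ι, (P.parabolic (s '' J)).map (θ.trans (MulAut.conj x⁻¹)).toMonoidHom
        = P.parabolic (s '' (ρ '' J))) ∧
      (∀ i, (Xp i).map (θ.trans (MulAut.conj x⁻¹)).toMonoidHom = Xp (ρ i)) ∧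
      (∀ i, (Xm i).map (θ.trans (MulAut.conj x⁻¹)).toMonoidHom = Xm (ρ i)) := by
  classical
  -- step 1: `U` is fixed
  obtain ⟨x1, hx1⟩ := exists_map_eq_cj p U hUp hidx θ
  set θ1 : G ≃* G := θ.trans (MulAut.conj x1⁻¹) with hθ1
  have h1U : U.map θ1.toMonoidHom = U := by
    rw [hθ1, map_trans_conj, hx1, cj_inv_cj]
  have hfixB : ∀ φ : G ≃* G, U.map φ.toMonoidHom = U → P.B.map φ.toMonoidHom = P.B := by
    intro φ hφ
    have := Subgroup.map_equiv_normalizer_eq U φ
    rw [hφ, hnorm] at this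
    exact this
  have h1B : P.B.map θ1.toMonoidHom = P.B := hfixB θ1 h1U
  -- step 2: `V` is fixed
  have h1V : V.map θ1.toMonoidHom = cj (θ1 n0) U := by
    rw [← hUV, map_cj, h1U]
  have h1inf : cj (θ1 n0) U ⊓ P.B = ⊥ := by
    rw [← h1V]
    conv_lhs => rw [← h1B]
    rw [← Subgroup.map_inf _ _ _ θ1.injective, inf_comm, hBV, Subgroup.map_bot]
  obtain ⟨b, hb, hbV⟩ := hopp _ h1inf
  set θ2 : G ≃* G := θ1.trans (MulAut.conj b⁻¹) with hθ2
  have h2V : V.map θ2.toMonoidHom = V := by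
    rw [hθ2, map_trans_conj, h1V, hbV, cj_inv_cj]
  have h2U : U.map θ2.toMonoidHom = U := by
    rw [hθ2, map_trans_conj, h1U]
    apply cj_of_mem_normalizer
    rw [hnorm]
    exact inv_mem hb
  have h2B : P.B.map θ2.toMonoidHom = P.B := hfixB θ2 h2U
  have hθ2' : θ2 = θ.trans (MulAut.conj (x1 * b)⁻¹) := by
    apply MulEquiv.ext
    intro y
    simp only [hθ2, hθ1, MulEquiv.trans_apply, MulAut.conj_apply, mul_inv_rev, inv_inv]
    group
  refine ⟨x1 * b, ?_⟩
  rw [← hθ2']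
  -- step 3: the parabolic subgroups
  obtain ⟨ρ, hρ1, hρ⟩ := exists_perm s hinj hS θ2 h2B
  have h2Xm : ∀ i, (Xm i).map θ2.toMonoidHom = Xm (ρ i) := by
    intro i
    rw [hXm i, hXm (ρ i), Subgroup.map_inf _ _ _ θ2.injective, hρ1 i, h2V]
  -- the opposite side
  set θ3 : G ≃* G := (MulAut.conj n0 : G ≃* G).trans (θ2.trans (MulAut.conj n0⁻¹)) with hθ3
  have h3 : ∀ K : Subgroup G, K.map θ3.toMonoidHom = cj n0⁻¹ ((cj n0 K).map θ2.toMonoidHom) := by
    intro K
    rw [hθ3, map_conj_trans, map_trans_conj]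
  have hBm : cj n0 P.B = Subgroup.normalizer (V : Set G) := by
    rw [← hnorm, ← normalizer_cj, hUV]
  have h2Bm : (cj n0 P.B).map θ2.toMonoidHom = cj n0 P.B := by
    rw [hBm]
    have := Subgroup.map_equiv_normalizer_eq V θ2
    rw [h2V] at this
    exact this
  have h3B : P.B.map θ3.toMonoidHom = P.B := by
    rw [h3, h2Bm, cj_inv_cj]
  obtain ⟨σ, hσ1, -⟩ := exists_perm s hinj hS θ3 h3B
  have hσ2 : ∀ j, (cj n0 (P.parabolic {s j})).map θ2.toMonoidHom
      = cj n0 (P.parabolic {s (σ j)}) := by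
    intro j
    have := hσ1 j
    rw [h3] at this
    rw [← this, cj_cj_inv]
  have h2Xp' : ∀ i, ∃ k, (Xp i).map θ2.toMonoidHom = Xp k := by
    intro i
    obtain ⟨j, hj⟩ := hopp1 i
    obtain ⟨k, hk⟩ := hopp2 (σ j)
    refine ⟨k, ?_⟩
    rw [← hj, ← hk, hXm j, hXm (σ j), cj_inf, cj_inf, hVU,
      Subgroup.map_inf _ _ _ θ2.injective, hσ2 j, h2U]
  have h2Xp : ∀ i, (Xp i).map θ2.toMonoidHom = Xp (ρ i) := by
    intro i
    obtain ⟨k, hk⟩ := h2Xp' i
    have hki : k = ρ i := by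
      by_contra hne
      obtain ⟨x, hx, y, hy, hxy⟩ := hncomm i
      apply hxy
      have hx' : θ2 x ∈ Xp k := by
        rw [← hk]
        exact Subgroup.mem_map_of_mem _ hx
      have hy' : θ2 y ∈ Xm (ρ i) := by
        rw [← h2Xm i]
        exact Subgroup.mem_map_of_mem _ hy
      have := hcomm k (ρ i) hne _ hx' _ hy'
      rw [← map_mul, ← map_mul] at this
      exact θ2.injective this
    rw [hk, hki]
  exact ⟨ρ, h2U, h2V, h2B, hρ, h2Xp, h2Xm⟩

end Cfsg.Agent.Lib.Helper5.AutBN
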