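import Cfsg.Agent.Lib.Helper5.AutBN.OutSym
import Mathlib

/-!
# The index of `DF` in `Out G` when the diagram has at most two symmetries (helper5)
-/

set_option autoImplicit false

namespace Cfsg.Agent.Lib.Helper5.AutBN

open Cfsg Cfsg.Lie Cfsg.Agent.Lib.Helper5 Cfsg.Agent.Lib.Helper5.Chev Cfsg.Agent.ChevAut
open scoped Matrix

section

variable {F : Type*} [Field F]

/-- the body of `IsGraphAut`: the action of a graph automorphism attached to `π` -/
def GraphBody (D : ChevalleyDatum) (π : Equiv.Perm (Fin D.rank))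
    (g : ↥(D.group F) ≃* ↥(D.group F)) : Prop :=
  ∀ (y : ↥(D.group F)) (i : Fin D.rank) (t : F),
    (((y : GL D.Idx F) : Matrix D.Idx D.Idx F) = D.x F (D.simple i) t →
      ((g y : GL D.Idx F) : Matrix D.Idx D.Idx F) =
        D.x F (D.simple (π i)) (t ^ D.graphExp (ringChar F) i (π i))) ∧
    (((y : GL D.Idx F) : Matrix D.Idx D.Idx F) = D.x F (D.neg (D.simple i)) t →
      ((g y : GL D.Idx F) : Matrix D.Idx D.Idx F) =
        D.x F (D.neg (D.simple (π i))) (t ^ D.graphExp (ringChar F) i (π i)))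

theorem isGraphAut_iff (D : ChevalleyDatum) (g : ↥(D.group F) ≃* ↥(D.group F)) :
    D.IsGraphAut g ↔ ∃ π : Equiv.Perm (Fin D.rank), D.IsDiagramSymmetry π ∧ GraphBody D π g :=
  Iff.rfl

theorem GraphBody.unique {D : ChevalleyDatum}
    (hD : D ∈ [chevG2, chevB2, chevD4, chevF4, chevE6, chevE7, chevE8])
    {π : Equiv.Perm (Fin D.rank)} {g g' : ↥(D.group F) ≃* ↥(D.group F)} (h : GraphBody D π g)
    (h' : GraphBody D π g') : g = g' := by
  apply aut_ext_simple hD
  · intro i hi t y hy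
    apply Subtype.ext
    apply Units.ext
    rw [(h y ⟨i, hi⟩ t).1 hy, (h' y ⟨i, hi⟩ t).1 hy]
  · intro i hi t y hy
    apply Subtype.ext
    apply Units.ext
    rw [(h y ⟨i, hi⟩ t).2 hy, (h' y ⟨i, hi⟩ t).2 hy]

theorem GraphBody.eq_one {D : ChevalleyDatum}
    (hD : D ∈ [chevG2, chevB2, chevD4, chevF4, chevE6, chevE7, chevE8])
    {g : ↥(D.group F) ≃* ↥(D.group F)} (h : GraphBody D 1 g) : g = 1 := by
  apply eq_refl_of_graph D hD g
  intro y i t
  have := h y i t
  have e : D.graphExp (ringChar F) i i = 1 := by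
    unfold ChevalleyDatum.graphExp
    cases D.isLong (D.simple i) <;> simp
  rw [Equiv.Perm.one_apply, e, pow_one] at this
  exact this

theorem graphBody_of_actsVia (D : ChevalleyDatum) (hD46 : D ∈ [chevD4, chevE6])
    (π : Equiv.Perm (Fin D.rank)) (g : ↥(D.group F) ≃* ↥(D.group F)) (hg : ActsVia D π g) :
    GraphBody D π g := by
  intro y i t
  rw [graphExp_D4E6 D hD46, pow_one]
  exact hg y i t

end

section

variable {F : Type*} [Field F] [Finite F] (D : ChevalleyDatum)
  (hD : D ∈ [chevG2, chevB2, chevD4, chevF4, chevE6, chevE7, chevE8])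
  (M : List (List ℤ)) (d : ℤ) (hd : d ≠ 0) (hM : coordb D M d = true)

include hd in
/-- a graph automorphism preserving `U` and `V` (with its inverse) which is inner times diagonal
times field belongs to the trivial symmetry -/
theorem perm_eq_one_of_inner' (π : Equiv.Perm (Fin D.rank))
    (g : ↥(D.group F) ≃* ↥(D.group F)) (hg : GraphBody D π g) (hgP : PresUV D g)
    (hgP' : PresUV D g⁻¹) (x : ↥(D.group F))
    (c : Fin D.rank → Fˣ) (σ : F ≃+* F)
    (h : g = MulAut.conj x * (diagC D hD M d hM c * fieldAut D σ)) : π = 1 := by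
  have hadd := allAdd_all (F := F) D hD
  have hdP : ∀ c' : Fin D.rank → Fˣ, PresUV D (diagC D hD M d hM c') :=
    fun c' => presUV_diagAut D hD _ _
  have hfP : ∀ τ : F ≃+* F, PresUV D (fieldAut D τ) := fun τ => presUV_fieldAut D hD τ
  have ef : (fieldAut D σ)⁻¹ = fieldAut D σ⁻¹ := ((fieldAutHom D).map_inv σ).symm
  have ed : (diagC D hD M d hM c)⁻¹ = diagC D hD M d hM c⁻¹ :=
    ((diagHom D hD M d hd hM).map_inv c).symm
  have e1 : MulAut.conj x = g * ((fieldAut D σ)⁻¹ * (diagC D hD M d hM c)⁻¹) := by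
    rw [h]; group
  have e2 : (MulAut.conj x)⁻¹ = diagC D hD M d hM c * fieldAut D σ * g⁻¹ := by
    rw [h]; group
  have hx1 : PresUV D (MulAut.conj x) := by
    rw [e1, ef, ed]
    exact hgP.mul ((hfP _).mul (hdP _))
  have hx2 : PresUV D (MulAut.conj x)⁻¹ := by
    rw [e2]
    exact ((hdP _).mul (hfP _)).mul hgP'
  have hxH := mem_diagonal_of_presUV D hD x hx1 hx2
  obtain ⟨χ', hχ', hxv, hxi⟩ := exists_char_of_mem hD (x : GL D.Idx F) hxH
  apply Equiv.ext
  intro i
  rw [Equiv.Perm.one_apply]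
  obtain ⟨hp, -⟩ := simple_lt_all D hD i i.2
  obtain ⟨hp', -⟩ := simple_lt_all D hD (π i) (π i).2
  set y : ↥(D.group F) := ⟨hadd.xU (D.simple i) 1, hadd.xU_mem_group _ _⟩ with hy
  have h1 := (hg y i 1).1 rfl
  rw [one_pow] at h1
  have h2 : ((fieldAut D σ y : GL D.Idx F) : Matrix D.Idx D.Idx F) = D.x F (D.simple i) (σ 1) := by
    rw [fieldAut_val]
    show (D.x F (D.simple i) 1).map σ = _
    rw [x_map]
  have h3 := diagC_pos D hD M d hd hM c i i.2 _ _ h2
  have h4 : ((g y : GL D.Idx F) : Matrix D.Idx D.Idx F)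
      = D.x F (D.simple i) ((χ' (D.simple i) : F) * ((c ⟨i, i.2⟩ : F) * σ 1)) := by
    rw [h, MulAut.mul_apply, MulAut.mul_apply, MulAut.conj_apply]
    simp only [Subgroup.coe_mul, Subgroup.coe_inv, Units.val_mul]
    rw [h3, hxv, hxi]
    exact Cfsg.Agent.S2157.result D hD χ' hχ' _ hp _
  have h5 : hadd.xU (D.simple (π i)) 1
      = hadd.xU (D.simple i) ((χ' (D.simple i) : F) * ((c ⟨i, i.2⟩ : F) * σ 1)) := by
    apply Units.ext
    rw [AllAdd.xU_val, AllAdd.xU_val, ← h1, h4]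
  have h6 := root_eq_of_xU_eq D hD _ _ hp' hp _ _ h5 one_ne_zero
  exact Fin.ext (simple_inj_all D hD _ (π i).2 _ i.2 h6)

include hd in
/-- the class of such a graph automorphism is outside `DF` -/
theorem outMk_not_mem_DF (π : Equiv.Perm (Fin D.rank)) (hπ : π ≠ 1)
    (g : ↥(D.group F) ≃* ↥(D.group F)) (hg : GraphBody D π g) (hgP : PresUV D g)
    (hgP' : PresUV D g⁻¹) : outMk D g ∉ DF D hD M d hd hM := by
  rintro ⟨c, σ, hcσ⟩
  rw [diagOut_apply, fieldOut_apply, ← map_mul] at hcσ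
  have h1 : outMk D (g * (diagC D hD M d hM c * fieldAut D σ)⁻¹) = 1 := by
    rw [map_mul, map_inv, hcσ, mul_inv_cancel]
  obtain ⟨x, hx⟩ := (outMk_eq_one_iff D _).1 h1
  apply hπ
  apply perm_eq_one_of_inner' D hD M d hd hM π g hg hgP hgP' x c σ
  rw [hx]
  group

include hd in
/-- if the diagram has at most two symmetries and the non-trivial one is not realised by a graph
automorphism, then `Out G = DF` -/
theorem DF_eq_top (π0 : Equiv.Perm (Fin D.rank))
    (hsym : ∀ π : Equiv.Perm (Fin D.rank), D.IsDiagramSymmetry π → π = 1 ∨ π = π0)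
    (hno : ¬ ∃ g : ↥(D.group F) ≃* ↥(D.group F), GraphBody D π0 g) :
    DF (F := F) D hD M d hd hM = ⊤ := by
  rw [eq_top_iff]
  intro ω _
  obtain ⟨c, g, σ, ⟨π, hπ, hg⟩, rfl⟩ := exists_decomp_out D hD M d hd hM ω
  rcases hsym π hπ with rfl | rfl
  · have : g = 1 := GraphBody.eq_one hD hg
    rw [this, map_one, one_mul]
    exact ⟨c, σ, rfl⟩
  · exact absurd ⟨g, hg⟩ hno

include hd in
/-- if the diagram has exactly two symmetries and the non-trivial one is realised by a graph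
automorphism preserving `U` and `V` whose square is in `DF`, then `DF` has index `2` -/
theorem index_DF_eq_two (π0 : Equiv.Perm (Fin D.rank)) (hπ0 : π0 ≠ 1)
    (hsym : ∀ π : Equiv.Perm (Fin D.rank), D.IsDiagramSymmetry π → π = 1 ∨ π = π0)
    (g0 : ↥(D.group F) ≃* ↥(D.group F)) (hg0 : GraphBody D π0 g0) (hgP : PresUV D g0)
    (hgP' : PresUV D g0⁻¹) (hsq : outMk D (g0 * g0) ∈ DF D hD M d hd hM) :
    (DF (F := F) D hD M d hd hM).index = 2 := by
  rw [Subgroup.index_eq_two_iff_exists_notMem_and]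
  refine ⟨outMk D g0, outMk_not_mem_DF D hD M d hd hM π0 hπ0 g0 hg0 hgP hgP', ?_⟩
  intro ω
  obtain ⟨c, g, σ, ⟨π, hπ, hg⟩, rfl⟩ := exists_decomp_out D hD M d hd hM ω
  rcases hsym π hπ with rfl | rfl
  · right
    have : g = 1 := GraphBody.eq_one hD hg
    rw [this, map_one, one_mul]
    exact ⟨c, σ, rfl⟩
  · left
    have : g = g0 := GraphBody.unique hD hg hg0
    subst this
    have hcomm := outMk_graph_mul_fieldOut D hD g ⟨π, hπ, hg⟩ σ
    have e : diagOut D hD M d hd hM c * (outMk D g * fieldOut D σ) * outMk D g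
        = diagOut D hD M d hd hM c * fieldOut D σ * outMk D (g * g) := by
      rw [hcomm, map_mul]
      group
    rw [e]
    exact Subgroup.mul_mem _ ⟨c, σ, rfl⟩ hsq

end

end Cfsg.Agent.Lib.Helper5.AutBN
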