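import Cfsg.Agent.Lib.Helper5.AutBN.ChevRoot
import Cfsg.Agent.Lib.Helper5.Chev.GenSimple
import Cfsg.Agent.Lib.Helper5.Chev.TriStmts
import Cfsg.Agent.Lib.Lead.ChevFieldAut
import Cfsg.Agent.Lib.Lead.ChevDiagAut
import Mathlib

/-!
# Tools for the outer automorphism groups of the Chevalley groups (helper5)

Field automorphisms form a group of automorphisms of order `f`; an inner automorphism which is
a diagonal automorphism times a field automorphism comes from `H` and its field part is
trivial; a diagonal automorphism whose character is the character of an element of `H` is inner;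
graph automorphisms for the trivial symmetry are trivial.
-/

set_option autoImplicit false

namespace Cfsg.Agent.Lib.Helper5.AutBN

open Cfsg Cfsg.Lie Cfsg.Agent.Lib.Helper5 Cfsg.Agent.Lib.Helper5.Chev Cfsg.Agent.ChevAut
open scoped Matrix

/-! ### the number of automorphisms of a finite field -/

theorem card_ringAut {F : Type*} [Field F] [Fintype F] (p : ℕ) [Fact p.Prime] [CharP F p] (k : ℕ)
    (hF : Fintype.card F = p ^ k) : Nat.card (F ≃+* F) = k := by
  let _ : Algebra (ZMod p) F := ZMod.algebra F p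
  have h1 : Module.finrank (ZMod p) F = k := by
    have := Module.card_eq_pow_finrank (K := ZMod p) (V := F)
    rw [hF, ZMod.card] at this
    exact (Nat.pow_right_injective (Fact.out : p.Prime).two_le this).symm
  have h2 := IsGalois.card_aut_eq_finrank (ZMod p) F
  rw [h1] at h2
  rw [← h2]
  apply Nat.card_congr
  refine ⟨fun ψ => AlgEquiv.ofRingEquiv (f := ψ) (fun r => ?_), fun e => e.toRingEquiv, ?_, ?_⟩
  · have : (ψ : F →+* F).comp (algebraMap (ZMod p) F) = algebraMap (ZMod p) F :=
      Subsingleton.elim _ _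
    exact DFunLike.congr_fun this r
  · intro ψ; rfl
  · intro e; rfl

section

variable {F : Type*} [Field F]

/-! ### the group of field automorphisms -/

/-- `σ ↦ fieldAut D σ` as a homomorphism -/
noncomputable def fieldAutHom (D : ChevalleyDatum) : (F ≃+* F) →* MulAut ↥(D.group F) where
  toFun σ := fieldAut D σ
  map_one' := by
    apply MulEquiv.ext
    intro g
    apply Subtype.ext
    apply Units.ext
    rw [fieldAut_val]
    ext i j
    simp
  map_mul' σ τ := by
    apply MulEquiv.ext
    intro g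
    apply Subtype.ext
    apply Units.ext
    rw [MulAut.mul_apply, fieldAut_val, fieldAut_val, fieldAut_val]
    ext i j
    simp

theorem fieldAutHom_apply (D : ChevalleyDatum) (σ : F ≃+* F) :
    fieldAutHom D σ = fieldAut D σ := rfl

/-- an automorphism acting on all root elements through `σ` is `fieldAut D σ` -/
theorem eq_fieldAut (D : ChevalleyDatum)
    (hD : D ∈ [chevG2, chevB2, chevD4, chevF4, chevE6, chevE7, chevE8]) (σ : F ≃+* F)
    (f : ↥(D.group F) ≃* ↥(D.group F))
    (hf : ∀ (g : ↥(D.group F)) (r : ℕ) (t : F), r < D.nroots →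
      ((g : GL D.Idx F) : Matrix D.Idx D.Idx F) = D.x F r t →
      ((f g : GL D.Idx F) : Matrix D.Idx D.Idx F) = D.x F r (σ t)) :
    f = fieldAut D σ := by
  have h := hom_ext_simple D hD f.toMonoidHom (fieldAut D σ).toMonoidHom
    (by
      intro i hi t y hy
      apply Subtype.ext
      apply Units.ext
      show ((f y : GL D.Idx F) : Matrix D.Idx D.Idx F) = _
      rw [hf y _ t (simple_lt_all D hD i hi).1 hy]
      show _ = ((fieldAut D σ y : GL D.Idx F) : Matrix D.Idx D.Idx F)
      rw [fieldAut_val, hy, x_map])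
    (by
      intro i hi t y hy
      apply Subtype.ext
      apply Units.ext
      show ((f y : GL D.Idx F) : Matrix D.Idx D.Idx F) = _
      rw [hf y _ t (simple_lt_all D hD i hi).2 hy]
      show _ = ((fieldAut D σ y : GL D.Idx F) : Matrix D.Idx D.Idx F)
      rw [fieldAut_val, hy, x_map])
  apply MulEquiv.ext
  intro g
  exact DFunLike.congr_fun h g

/-- a graph automorphism attached to the trivial symmetry is trivial -/
theorem eq_refl_of_graph (D : ChevalleyDatum)
    (hD : D ∈ [chevG2, chevB2, chevD4, chevF4, chevE6, chevE7, chevE8])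
    (g : ↥(D.group F) ≃* ↥(D.group F))
    (hg : ∀ (y : ↥(D.group F)) (i : Fin D.rank) (t : F),
      (((y : GL D.Idx F) : Matrix D.Idx D.Idx F) = D.x F (D.simple i) t →
        ((g y : GL D.Idx F) : Matrix D.Idx D.Idx F) = D.x F (D.simple i) t) ∧
      (((y : GL D.Idx F) : Matrix D.Idx D.Idx F) = D.x F (D.neg (D.simple i)) t →
        ((g y : GL D.Idx F) : Matrix D.Idx D.Idx F) = D.x F (D.neg (D.simple i)) t)) :
    g = MulEquiv.refl _ := by
  have h := hom_ext_simple D hD g.toMonoidHom (MonoidHom.id _)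
    (by
      intro i hi t y hy
      apply Subtype.ext
      apply Units.ext
      show ((g y : GL D.Idx F) : Matrix D.Idx D.Idx F) = _
      rw [(hg y ⟨i, hi⟩ t).1 hy]
      exact hy.symm)
    (by
      intro i hi t y hy
      apply Subtype.ext
      apply Units.ext
      show ((g y : GL D.Idx F) : Matrix D.Idx D.Idx F) = _
      rw [(hg y ⟨i, hi⟩ t).2 hy]
      exact hy.symm)
  apply MulEquiv.ext
  intro y
  exact DFunLike.congr_fun h y

end

section

variable {F : Type*} [Field F] [Finite F]

/-! ### elements normalising `U` and `V` -/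

/-- an element of the group normalising `U` and `V` lies in `H` -/
theorem mem_diagonal_of_normalizes (D : ChevalleyDatum)
    (hD : D ∈ [chevG2, chevB2, chevD4, chevF4, chevE6, chevE7, chevE8]) (x : GL D.Idx F)
    (hx : x ∈ D.group F)
    (hU : x ∈ Subgroup.normalizer (D.posUnipotent F : Set (GL D.Idx F)))
    (hV : x ∈ Subgroup.normalizer (D.negUnipotent F : Set (GL D.Idx F))) :
    x ∈ D.diagonalSubgroup F := by
  have hadd := allAdd_all (F := F) D hD
  have hNG : D.monomialSubgroup F ≤ D.group F := hadd.monomial_le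
  have hNH : D.monomialSubgroup F ≤ Subgroup.normalizer (D.diagonalSubgroup F : Set (GL D.Idx F)) :=
    (Subgroup.normal_subgroupOf_iff_le_normalizer le_sup_left).1 (diagonal_normal_all D hD)
  have hxB := mem_borel_of_normalizer D hD x hx hU
  obtain ⟨n0, hn0, hUV, hVU, -, -⟩ := exists_longest (F := F) D hD
  -- `n0⁻¹ x n0` normalises `U`
  have h1 : n0⁻¹ * x * n0 ∈ Subgroup.normalizer (D.posUnipotent F : Set (GL D.Idx F)) := by
    have e : D.posUnipotent F = cj n0⁻¹ (D.negUnipotent F) := by
      rw [← hUV, cj_inv_cj]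
    rw [e, normalizer_cj, mem_cj]
    have : (n0⁻¹)⁻¹ * (n0⁻¹ * x * n0) * n0⁻¹ = x := by group
    rw [this]
    exact hV
  have h2 : n0⁻¹ * x * n0 ∈ D.borelSubgroup F :=
    mem_borel_of_normalizer D hD _
      (Subgroup.mul_mem _ (Subgroup.mul_mem _ (Subgroup.inv_mem _ (hNG hn0)) hx) (hNG hn0)) h1
  have h3 : x ∈ cj n0 (D.borelSubgroup F) := by
    rw [mem_cj]
    exact h2
  have h4 : cj n0 (D.borelSubgroup F) = D.negUnipotent F ⊔ D.diagonalSubgroup F := by
    have e1 : cj n0 (D.diagonalSubgroup F) = D.diagonalSubgroup F :=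
      cj_of_mem_normalizer (hNH hn0)
    unfold ChevalleyDatum.borelSubgroup
    unfold cj at hUV e1 ⊢
    rw [Subgroup.map_sup, hUV, e1]
  rw [h4] at h3
  have h5 : x ∈ D.borelSubgroup F ⊓ (D.negUnipotent F ⊔ D.diagonalSubgroup F) := ⟨hxB, h3⟩
  rw [(borel_inf_neg_all D hD).2] at h5
  exact h5

/-- if conjugation by `x` maps `x_r(t)` to `x_r(c_r σ(t))` for all roots, then `x ∈ H`, the
scalars `c_r` are the values of the character of `x`, and `σ` is trivial -/
theorem of_conj_eq_diag_field (D : ChevalleyDatum)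
    (hD : D ∈ [chevG2, chevB2, chevD4, chevF4, chevE6, chevE7, chevE8]) (hadd : AllAdd F D)
    (x : GL D.Idx F) (hx : x ∈ D.group F) (σ : F ≃+* F) (c : ℕ → Fˣ)
    (h : ∀ r < D.nroots, ∀ t : F,
      x * hadd.xU r t * x⁻¹ = hadd.xU r ((c r : F) * σ t)) :
    x ∈ D.diagonalSubgroup F ∧ (∀ t : F, σ t = t) ∧
      ∃ χ : ℕ → Fˣ, D.IsRootCharacter χ ∧ (x : Matrix D.Idx D.Idx F) = D.charDiag F χ ∧
        ∀ r < D.nroots, χ r = c r := by
  -- the inverse conjugation
  have h' : ∀ r < D.nroots, ∀ t : F,
      x⁻¹ * hadd.xU r t * x = hadd.xU r (σ.symm ((((c r)⁻¹ : Fˣ) : F) * t)) := by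
    intro r hr t
    have h1 := h r hr (σ.symm ((((c r)⁻¹ : Fˣ) : F) * t))
    rw [RingEquiv.apply_symm_apply, ← mul_assoc, ← Units.val_mul, mul_inv_cancel, Units.val_one,
      one_mul] at h1
    rw [← h1]
    group
  have hnorm : ∀ (P : ℕ → Prop), (∀ r, P r → r < D.nroots) →
      x ∈ Subgroup.normalizer (Subgroup.closure {g : GL D.Idx F | ∃ (r : ℕ) (t : F), P r ∧
        (g : Matrix D.Idx D.Idx F) = D.x F r t} : Set (GL D.Idx F)) := by
    intro P hP
    apply mem_normalizer_closure
    · rintro y ⟨r, t, hr, hy⟩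
      have : y = hadd.xU r t := Units.ext hy
      subst this
      rw [h r (hP r hr) t]
      exact Subgroup.subset_closure ⟨r, _, hr, rfl⟩
    · rintro y ⟨r, t, hr, hy⟩
      have : y = hadd.xU r t := Units.ext hy
      subst this
      rw [h' r (hP r hr) t]
      exact Subgroup.subset_closure ⟨r, _, hr, rfl⟩
  have hU : x ∈ Subgroup.normalizer (D.posUnipotent F : Set (GL D.Idx F)) :=
    hnorm D.IsPosRoot (fun r hr => hr.1)
  have hV : x ∈ Subgroup.normalizer (D.negUnipotent F : Set (GL D.Idx F)) :=
    hnorm D.IsNegRoot (fun r hr => hr.1)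
  have hxH := mem_diagonal_of_normalizes D hD x hx hU hV
  obtain ⟨χ, hχ, hx1, hx2⟩ := exists_char_of_mem hD x hxH
  have hconj : ∀ r < D.nroots, ∀ t : F,
      x * hadd.xU r t * x⁻¹ = hadd.xU r ((χ r : F) * t) := by
    intro r hr t
    apply Units.ext
    rw [Units.val_mul, Units.val_mul, hx1, hx2]
    exact Cfsg.Agent.S2157.result D hD χ hχ r hr t
  have heq : ∀ r < D.nroots, ∀ t : F, (χ r : F) * t = (c r : F) * σ t := by
    intro r hr t
    apply xU_injective hadd r (xInj_all D hD r hr)
    rw [← hconj r hr t, h r hr t]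
  have hχc : ∀ r < D.nroots, χ r = c r := by
    intro r hr
    have := heq r hr 1
    rw [map_one, mul_one, mul_one] at this
    exact Units.ext this
  refine ⟨hxH, ?_, χ, hχ, hx1, hχc⟩
  intro t
  obtain ⟨hp, -⟩ := simple_lt_all D hD 0 (by
    simp only [List.mem_cons, List.not_mem_nil, or_false] at hD
    rcases hD with rfl | rfl | rfl | rfl | rfl | rfl | rfl <;> decide)
  have h1 := heq _ hp t
  rw [hχc _ hp] at h1
  exact (mul_left_cancel₀ (Units.ne_zero _) h1).symm

end

section

variable {F : Type*} [Field F]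

/-! ### diagonal automorphisms coming from `H` -/

/-- a diagonal automorphism whose character agrees on the fundamental roots with the character
of a product of the elements `h_{p_k}(u_k)` is inner -/
theorem diag_inner_of_solution (D : ChevalleyDatum)
    (hD : D ∈ [chevG2, chevB2, chevD4, chevF4, chevE6, chevE7, chevE8]) (χ : ℕ → Fˣ)
    (hχ : D.IsRootCharacter χ) (u : ℕ → Fˣ)
    (hu : ∀ i < D.rank, chiL D (List.range D.rank) u (D.simple i) = χ (D.simple i))
    (d : ↥(D.group F) ≃* ↥(D.group F))
    (hd : ∀ g : ↥(D.group F), ((d g : GL D.Idx F) : Matrix D.Idx D.Idx F) =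
      D.charDiag F χ * ((g : GL D.Idx F) : Matrix D.Idx D.Idx F) *
        D.charDiag F (fun r => (χ r)⁻¹)) :
    ∃ h : ↥(D.group F), (h : GL D.Idx F) ∈ D.diagonalSubgroup F ∧ d = MulAut.conj h := by
  have hadd := allAdd_all (F := F) D hD
  set χ' := chiL D (List.range D.rank) u with hχ'def
  have hχ' : D.IsRootCharacter χ' :=
    isRootCharacter_chiL hD _ (fun k hk => List.mem_range.1 hk) u
  -- the element of `H`
  set w : List (ℕ × F) := (List.range D.rank).flatMap fun i => D.hWord (D.simple i) (u i : F)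
    with hw
  have hval : ((hadd.wordU w : GL D.Idx F) : Matrix D.Idx D.Idx F) = D.charDiag F χ' := by
    rw [hadd.wordU_val, hw, wordMat_flatMap,
      prod_hMat_eq hD _ (fun i hi => List.mem_range.1 hi) (fun i => (u i : F))
        (fun i _ => Units.ne_zero _), hχ'def, charDiag_chiL]
  have hinv : (((hadd.wordU w)⁻¹ : GL D.Idx F) : Matrix D.Idx D.Idx F)
      = D.charDiag F (fun s => (χ' s)⁻¹) := by
    have h2 : (((hadd.wordU w)⁻¹ : GL D.Idx F) : Matrix D.Idx D.Idx F) *
        ((hadd.wordU w : GL D.Idx F) : Matrix D.Idx D.Idx F) = 1 := by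
      rw [← Units.val_mul, inv_mul_cancel, Units.val_one]
    calc (((hadd.wordU w)⁻¹ : GL D.Idx F) : Matrix D.Idx D.Idx F)
        = (((hadd.wordU w)⁻¹ : GL D.Idx F) : Matrix D.Idx D.Idx F) *
            (((hadd.wordU w : GL D.Idx F) : Matrix D.Idx D.Idx F) *
              D.charDiag F (fun s => (χ' s)⁻¹)) := by
          rw [hval, Cfsg.Agent.Lib.Helper5.Chev.charDiag_mul_inv, Matrix.mul_one]
      _ = _ := by rw [← Matrix.mul_assoc, h2, Matrix.one_mul]
  have hmemH : hadd.wordU w ∈ D.diagonalSubgroup F := by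
    have : hadd.wordU w = ((List.range D.rank).map fun i =>
        hadd.wordU (D.hWord (D.simple i) (u i : F))).prod := by
      apply Units.ext
      rw [hadd.wordU_val, hw, wordMat_flatMap]
      have : ∀ L : List ℕ, ((L.map fun i => D.hMat F (D.simple i) (u i : F)).prod)
          = (((L.map fun i => hadd.wordU (D.hWord (D.simple i) (u i : F))).prod : GL D.Idx F) :
            Matrix D.Idx D.Idx F) := by
        intro L
        induction L with
        | nil => simp
        | cons i L ih =>
          rw [List.map_cons, List.prod_cons, List.map_cons, List.prod_cons, Units.val_mul, ← ih,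
            hadd.wordU_val]
          rfl
      exact this _
    rw [this]
    apply Subgroup.list_prod_mem
    intro g hg
    rw [List.mem_map] at hg
    obtain ⟨i, hi, rfl⟩ := hg
    exact wordU_hWord_mem hadd _ (simple_lt_all D hD i (List.mem_range.1 hi)).1 _
      (Units.ne_zero _)
  refine ⟨⟨hadd.wordU w, hadd.wordU_mem w⟩, hmemH, ?_⟩
  have key : ∀ (r : ℕ), r < D.nroots → χ' r = χ r → ∀ (t : F) (y : ↥(D.group F)),
      ((y : GL D.Idx F) : Matrix D.Idx D.Idx F) = D.x F r t →
      d y = MulAut.conj (⟨hadd.wordU w, hadd.wordU_mem w⟩ : ↥(D.group F)) y := by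
    intro r hr hrr t y hy
    apply Subtype.ext
    apply Units.ext
    rw [hd y, hy, Cfsg.Agent.S2157.result D hD χ hχ r hr t]
    show _ = ((hadd.wordU w * (y : GL D.Idx F) * (hadd.wordU w)⁻¹ : GL D.Idx F) :
      Matrix D.Idx D.Idx F)
    rw [Units.val_mul, Units.val_mul, hval, hinv, hy,
      Cfsg.Agent.S2157.result D hD χ' hχ' r hr t, hrr]
  have h := hom_ext_simple D hD d.toMonoidHom
    (MulAut.conj (⟨hadd.wordU w, hadd.wordU_mem w⟩ : ↥(D.group F))).toMonoidHom
    (by
      intro i hi t y hy
      exact key _ (simple_lt_all D hD i hi).1 (hu i hi) t y hy)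
    (by
      intro i hi t y hy
      obtain ⟨hp, hq⟩ := simple_lt_all D hD i hi
      refine key _ hq ?_ t y hy
      rw [hχ'.1 _ hp, hχ.1 _ hp, hu i hi])
  apply MulEquiv.ext
  intro y
  exact DFunLike.congr_fun h y

end

end Cfsg.Agent.Lib.Helper5.AutBN
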