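import Cfsg.Agent.Lib.Lead.ExcIsoB2
import Cfsg.Agent.Lib.Helper5.AutBN.OutIndex
import Cfsg.Agent.Lib.Helper5.AutBN.OutSym
import Cfsg.Agent.Lib.Helper5.AutBN.OutTools
import Cfsg.Agent.Lib.Helper5.Chev.HCardAll
import Cfsg.Agent.Lib.Helper5.Chev.HcB2
import Mathlib

/-!
# The outer automorphism group of `B₂(2^f)` is cyclic of order `2f` (helper5)

The class of the exceptional graph automorphism `γ` (lead's `exists_graphAut_B2`) has square the
class of the Frobenius automorphism and does not lie in the subgroup `DF` of the diagonal and field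
classes, which has order `f` and index `2`.
-/

set_option autoImplicit false

namespace Cfsg.Agent.Lib.Helper5.AutBN

open Cfsg Cfsg.Lie Cfsg.Agent.Lib.Helper5 Cfsg.Agent.Lib.Helper5.Chev Cfsg.Agent.ChevAut
open scoped Matrix

theorem symB2' (π : Equiv.Perm (Fin chevB2.rank)) (_h : chevB2.IsDiagramSymmetry π) :
    π = 1 ∨ π = Cfsg.Agent.ExcIso.piB2 := by
  revert π
  decide

theorem piB2_ne_one' : Cfsg.Agent.ExcIso.piB2 ≠ 1 := by decide

section

variable {F : Type*} [Field F] [Fintype F]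

/-- a finite field with `2 ^ f` elements has characteristic 2 -/
theorem charP_two_of_card {f : ℕ} (_hf : 1 ≤ f) (hF : Fintype.card F = 2 ^ f) : CharP F 2 := by
  obtain ⟨p, hp⟩ := CharP.exists F
  obtain ⟨n, hpp, hn⟩ := FiniteField.card F p
  rw [hF] at hn
  have h2 : p ∣ 2 ^ f := by
    rw [hn]
    exact dvd_pow_self p n.ne_zero
  have h3 : p ∣ 2 := hpp.dvd_of_dvd_pow h2
  have h4 : p = 2 := (Nat.prime_dvd_prime_iff_eq hpp Nat.prime_two).1 h3
  subst h4
  exact hp

theorem frob_pow_apply [CharP F 2] (m : ℕ) (t : F) :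
    ((frobeniusEquiv F 2) ^ m : F ≃+* F) t = t ^ 2 ^ m := by
  induction m generalizing t with
  | zero => simp
  | succ m ih =>
    rw [pow_succ]
    show ((frobeniusEquiv F 2) ^ m : F ≃+* F) (frobeniusEquiv F 2 t) = _
    rw [ih, frobeniusEquiv_apply, frobenius_def, ← pow_mul, ← pow_succ']

/-- if a power of the Frobenius automorphism is trivial then the field has at most `2 ^ m`
elements -/
theorem card_le_of_frob_pow [CharP F 2] (m : ℕ) (hm : 0 < m)
    (h : ((frobeniusEquiv F 2) ^ m : F ≃+* F) = 1) : Fintype.card F ≤ 2 ^ m := by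
  classical
  have hroot : ∀ t : F, t ^ 2 ^ m = t := by
    intro t
    rw [← frob_pow_apply, h]
    rfl
  have h1 : 1 < 2 ^ m := Nat.one_lt_two_pow (by omega)
  have hne : (Polynomial.X ^ 2 ^ m - Polynomial.X : Polynomial F) ≠ 0 :=
    FiniteField.X_pow_card_sub_X_ne_zero F h1
  have hdeg : (Polynomial.X ^ 2 ^ m - Polynomial.X : Polynomial F).natDegree = 2 ^ m :=
    FiniteField.X_pow_card_sub_X_natDegree_eq F h1
  have hsub : (Finset.univ : Finset F) ⊆
      (Polynomial.X ^ 2 ^ m - Polynomial.X : Polynomial F).roots.toFinset := by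
    intro t _
    rw [Multiset.mem_toFinset, Polynomial.mem_roots hne, Polynomial.IsRoot.def]
    simp [hroot t]
  calc Fintype.card F = (Finset.univ : Finset F).card := rfl
    _ ≤ (Polynomial.X ^ 2 ^ m - Polynomial.X : Polynomial F).roots.toFinset.card :=
      Finset.card_le_card hsub
    _ ≤ Multiset.card (Polynomial.X ^ 2 ^ m - Polynomial.X : Polynomial F).roots :=
      Multiset.toFinset_card_le _
    _ ≤ (Polynomial.X ^ 2 ^ m - Polynomial.X : Polynomial F).natDegree :=
      Polynomial.card_roots' _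
    _ = 2 ^ m := hdeg

/-- the outer automorphism group of `B₂(2^f)` is cyclic of order `2f` -/
theorem out_B2_char2 {f : ℕ} (hf : 1 ≤ f) (hF : Fintype.card F = 2 ^ f) :
    IsCyclic (Cfsg.Out ↥(chevB2.group F)) ∧ Nat.card (Cfsg.Out ↥(chevB2.group F)) = 2 * f := by
  have hch : CharP F 2 := charP_two_of_card hf hF
  have : Fact (Nat.Prime 2) := ⟨Nat.prime_two⟩
  have hD : chevB2 ∈ [chevG2, chevB2, chevD4, chevF4, chevE6, chevE7, chevE8] := by simp
  have hd : (2 : ℤ) ≠ 0 := two_ne_zero
  -- the order of `DF`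
  have hcard := card_DF_mul_card_diagonal (F := F) chevB2 hD MB2 2 hd coordB2 HcB2.Mt HcB2.hC
  rw [card_ringAut 2 f hF] at hcard
  have hq2 : 2 ≤ Fintype.card F := Fintype.one_lt_card
  have hgcd : Nat.gcd 2 (Fintype.card F - 1) = 1 := by
    have hodd : (Fintype.card F - 1) % 2 = 1 := by
      rw [hF]
      obtain ⟨k, rfl⟩ : ∃ k, f = k + 1 := ⟨f - 1, by omega⟩
      rw [pow_succ]
      have : 1 ≤ 2 ^ k := Nat.one_le_two_pow
      omega
    exact (Nat.Prime.coprime_iff_not_dvd Nat.prime_two).2 (by omega)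
  have hH : Nat.card (chevB2.diagonalSubgroup F) = (Fintype.card F - 1) ^ 2 := by
    have := card_diagonal_B2 (F := F)
    rw [hgcd, one_mul] at this
    exact this
  rw [hH] at hcard
  have hq1 : 0 < (Fintype.card F - 1) ^ 2 := by
    apply pow_pos
    omega
  have hDF : Nat.card (DF (F := F) chevB2 hD MB2 2 hd coordB2) = f := by
    apply Nat.eq_of_mul_eq_mul_right hq1
    rw [hcard]
    show (Fintype.card F - 1) ^ 2 * f = f * (Fintype.card F - 1) ^ 2
    ring
  -- the graph automorphism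
  obtain ⟨γ, hγ, hsq, hP, hP'⟩ := Cfsg.Agent.ExcIso.exists_graphAut_B2 (K := F)
  have esq : γ * γ = fieldAut chevB2 (frobeniusEquiv F 2) := by
    apply MulEquiv.ext
    intro y
    rw [MulAut.mul_apply, hsq]
  have hsq' : outMk chevB2 (γ * γ) ∈ DF (F := F) chevB2 hD MB2 2 hd coordB2 := by
    rw [esq]
    exact fieldOut_mem_DF chevB2 hD MB2 2 hd coordB2 (frobeniusEquiv F 2)
  have hidx := index_DF_eq_two (F := F) chevB2 hD MB2 2 hd coordB2 Cfsg.Agent.ExcIso.piB2
    piB2_ne_one' symB2' γ hγ hP hP' hsq'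
  have hmul := (DF (F := F) chevB2 hD MB2 2 hd coordB2).card_mul_index
  rw [hidx, hDF] at hmul
  have hcardOut : Nat.card (Cfsg.Out ↥(chevB2.group F)) = 2 * f := by omega
  refine ⟨?_, hcardOut⟩
  -- cyclicity: the class of `γ` has order `2f`
  have hfin : Finite (Cfsg.Out ↥(chevB2.group F)) := by
    apply Nat.finite_of_card_ne_zero
    rw [hcardOut]
    omega
  set c := outMk chevB2 γ with hc
  have hnot : c ∉ DF (F := F) chevB2 hD MB2 2 hd coordB2 :=
    outMk_not_mem_DF chevB2 hD MB2 2 hd coordB2 Cfsg.Agent.ExcIso.piB2 piB2_ne_one' γ hγ hP hP'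
  have hc2 : c * c = fieldOut chevB2 (frobeniusEquiv F 2) := by
    rw [hc, ← map_mul, esq, fieldOut_apply]
  have hc2mem : c * c ∈ DF (F := F) chevB2 hD MB2 2 hd coordB2 := by
    rw [hc2]
    exact fieldOut_mem_DF chevB2 hD MB2 2 hd coordB2 _
  apply isCyclic_of_orderOf_eq_card c
  have hdvd : orderOf c ∣ 2 * f := by
    rw [← hcardOut]
    exact orderOf_dvd_natCard c
  have hpos : 0 < orderOf c := orderOf_pos c
  have hle : orderOf c ≤ 2 * f := Nat.le_of_dvd (by omega) hdvd
  rw [hcardOut]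
  apply le_antisymm hle
  -- the order is even
  rcases Nat.even_or_odd' (orderOf c) with ⟨m, hm | hm⟩
  · -- even order `2m`: the `m`-th power of the Frobenius automorphism is trivial
    have hm0 : 0 < m := by omega
    have h1 : (c * c) ^ m = 1 := by
      rw [← sq, ← pow_mul, ← hm]
      exact pow_orderOf_eq_one c
    rw [hc2, ← map_pow] at h1
    have h2 : diagOut chevB2 hD MB2 2 hd coordB2 1 * fieldOut chevB2 ((frobeniusEquiv F 2) ^ m) = 1 := by
      rw [map_one, one_mul, h1]
    have h3 := (diagOut_mul_fieldOut_eq_one chevB2 hD MB2 2 hd coordB2 1 _ h2).1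
    have h4 := card_le_of_frob_pow m hm0 h3
    rw [hF] at h4
    have h5 : f ≤ m := (Nat.pow_le_pow_iff_right (by norm_num)).1 h4
    omega
  · -- odd order: `c` would lie in `DF`
    exfalso
    apply hnot
    have h1 : c ^ (2 * m + 1) = 1 := by
      rw [← hm]
      exact pow_orderOf_eq_one c
    have h2 : c = ((c * c) ^ m)⁻¹ := by
      have : (c * c) ^ m * c = 1 := by
        rw [← sq, ← pow_mul, ← pow_succ]
        exact h1
      exact eq_inv_of_mul_eq_one_right this
    rw [h2]
    exact Subgroup.inv_mem _ (Subgroup.pow_mem _ hc2mem m)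

end

end Cfsg.Agent.Lib.Helper5.AutBN
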