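import Cfsg.Agent.Lib.Helper5.AutBN.OutCount
import Cfsg.Prelude.Def_KGroupFacts
import Mathlib

/-!
# The order of the outer automorphism group of a Chevalley group whose diagram has no symmetry:
the count (helper5)
-/

set_option autoImplicit false

namespace Cfsg.Agent.Lib.Helper5.AutBN

open Cfsg Cfsg.Lie Cfsg.Agent.Lib.Helper5 Cfsg.Agent.Lib.Helper5.Chev Cfsg.Agent.ChevAut
open scoped Matrix

section

variable {F : Type*} [Field F] [Fintype F] (D : ChevalleyDatum)
  (hD : D ∈ [chevG2, chevB2, chevD4, chevF4, chevE6, chevE7, chevE8])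
  (M : List (List ℤ)) (d : ℤ) (hd : d ≠ 0) (hM : coordb D M d = true)

include hD hd hM in
/-- `|Out G| · |H| = (q - 1)^l · |Aut F|` when the diagram has no symmetry, given Steinberg's
decomposition of the automorphisms -/
theorem card_out_mul_card_diagonal
    (Mt : Matrix (Fin D.rank) (Fin D.nroots) ℤ) (hC : cartanM D = cartanA D * Mt)
    (hsym : ∀ π : Equiv.Perm (Fin D.rank), D.IsDiagramSymmetry π → π = 1)
    (hS : ∀ θ : ↥(D.group F) ≃* ↥(D.group F),
      ∃ (x : ↥(D.group F)) (dd g f' : ↥(D.group F) ≃* ↥(D.group F)),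
        D.IsDiagonalAut dd ∧ D.IsGraphAut g ∧ D.IsFieldAut f' ∧
          ∀ y : ↥(D.group F), θ y = x * dd (g (f' y)) * x⁻¹) :
    Nat.card (Cfsg.Out ↥(D.group F)) * Nat.card (D.diagonalSubgroup F)
      = (Fintype.card F - 1) ^ D.rank * Nat.card (F ≃+* F) := by
  classical
  let Ψ : (Fin D.rank → Fˣ) →* Cfsg.Out ↥(D.group F) :=
    (QuotientGroup.mk' (Cfsg.Inn ↥(D.group F))).comp (diagHom D hD M d hd hM)
  let Φ : (F ≃+* F) →* Cfsg.Out ↥(D.group F) :=
    (QuotientGroup.mk' (Cfsg.Inn ↥(D.group F))).comp (fieldAutHom D)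
  have hΨ : ∀ c, Ψ c = QuotientGroup.mk' (Cfsg.Inn ↥(D.group F)) (diagC D hD M d hM c) :=
    fun c => rfl
  have hΦ : ∀ σ, Φ σ = QuotientGroup.mk' (Cfsg.Inn ↥(D.group F)) (fieldAut D σ) := fun σ => rfl
  -- the kernel
  have hker : Ψ.ker = (zact (G := Fˣ) (cartanA D)).range := by
    ext c
    rw [MonoidHom.mem_ker, hΨ]
    constructor
    · intro h
      obtain ⟨x, hx⟩ := (QuotientGroup.eq_one_iff _).1 h
      have hx' : MulAut.conj x = diagC D hD M d hM c * fieldAut D (1 : F ≃+* F) := by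
        have : fieldAut D (1 : F ≃+* F) = 1 := (fieldAutHom D).map_one
        rw [this, mul_one]
        exact hx
      exact (of_conj_eq_diagC_field D hD M d hd hM x c 1 hx').2
    · intro h
      obtain ⟨y, hy⟩ := diagC_inner_of_mem_range D hD M d hd hM c h
      exact (QuotientGroup.eq_one_iff _).2 ⟨y, hy.symm⟩
  -- the product decomposition
  have hprod : ∀ (c : Fin D.rank → Fˣ) (σ : F ≃+* F), Ψ c * Φ σ = 1 →
      c ∈ Ψ.ker ∧ σ = 1 := by
    intro c σ h
    rw [hΨ, hΦ, ← map_mul] at h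
    obtain ⟨x, hx⟩ := (QuotientGroup.eq_one_iff _).1 h
    have h1 := of_conj_eq_diagC_field D hD M d hd hM x c σ hx
    refine ⟨?_, ?_⟩
    · rw [hker]
      exact h1.2
    · apply RingEquiv.ext
      intro t
      exact h1.1 t
  let Θ : ((Fin D.rank → Fˣ) ⧸ Ψ.ker) × (F ≃+* F) → Cfsg.Out ↥(D.group F) :=
    fun q => QuotientGroup.kerLift Ψ q.1 * Φ q.2
  have hΘinj : Function.Injective Θ := by
    rintro ⟨q, σ⟩ ⟨q', σ'⟩ h
    obtain ⟨c, rfl⟩ := QuotientGroup.mk_surjective q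
    obtain ⟨c', rfl⟩ := QuotientGroup.mk_surjective q'
    have h1 : Ψ c * Φ σ = Ψ c' * Φ σ' := h
    have h2 : Ψ (c'⁻¹ * c) * Φ (σ * σ'⁻¹) = 1 := by
      rw [map_mul, map_mul, map_inv, map_inv]
      calc (Ψ c')⁻¹ * Ψ c * (Φ σ * (Φ σ')⁻¹)
          = (Ψ c')⁻¹ * (Ψ c * Φ σ) * (Φ σ')⁻¹ := by group
        _ = 1 := by
          rw [h1]
          group
    obtain ⟨h3, h4⟩ := hprod _ _ h2
    have h5 : σ = σ' := by
      have : σ = σ * σ'⁻¹ * σ' := by group
      rw [this, h4, one_mul]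
    have h6 : (QuotientGroup.mk c : (Fin D.rank → Fˣ) ⧸ Ψ.ker) = QuotientGroup.mk c' := by
      rw [eq_comm, QuotientGroup.eq]
      exact h3
    rw [Prod.mk.injEq]
    exact ⟨h6, h5⟩
  have hΘsurj : Function.Surjective Θ := by
    intro ω
    obtain ⟨θ, rfl⟩ := QuotientGroup.mk_surjective ω
    obtain ⟨x, dd, g, f', hdd, hg, hf, hθ⟩ := hS θ
    obtain ⟨σ, hσ⟩ := hf
    have hf' : f' = fieldAut D σ := eq_fieldAut D hD σ f' hσ
    obtain ⟨π, hπ, hgπ⟩ := hg
    have hπ1 : π = 1 := hsym π hπ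
    have hg' : g = MulEquiv.refl _ := by
      apply eq_refl_of_graph D hD g
      intro y i t
      have := hgπ y i t
      have e : D.graphExp (ringChar F) i i = 1 := by
        unfold ChevalleyDatum.graphExp
        cases D.isLong (D.simple i) <;> simp
      rw [hπ1, Equiv.Perm.one_apply, e, pow_one] at this
      exact this
    obtain ⟨c, hc⟩ := eq_diagC D hD M d hd hM dd hdd
    refine ⟨(QuotientGroup.mk c, σ), ?_⟩
    show Ψ c * Φ σ = _
    rw [hΨ, hΦ, ← map_mul]
    have e : θ = MulAut.conj x * (diagC D hD M d hM c * fieldAut D σ) := by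
      apply MulEquiv.ext
      intro y
      rw [hθ y, hg', hc, hf', MulAut.mul_apply, MulAut.mul_apply, MulAut.conj_apply]
      rfl
    show _ = QuotientGroup.mk' (Cfsg.Inn ↥(D.group F)) θ
    rw [e, map_mul (QuotientGroup.mk' (Cfsg.Inn ↥(D.group F))) (MulAut.conj x)]
    have h1 : QuotientGroup.mk' (Cfsg.Inn ↥(D.group F)) (MulAut.conj x) = 1 :=
      (QuotientGroup.eq_one_iff _).2 ⟨x, rfl⟩
    rw [h1, one_mul]
  have hcard1 : Nat.card (Cfsg.Out ↥(D.group F))
      = Nat.card ((Fin D.rank → Fˣ) ⧸ Ψ.ker) * Nat.card (F ≃+* F) := by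
    rw [← Nat.card_prod]
    exact (Nat.card_congr (Equiv.ofBijective Θ ⟨hΘinj, hΘsurj⟩)).symm
  -- the orders
  have hC1 : Nat.card (Fin D.rank → Fˣ) = (Fintype.card F - 1) ^ D.rank := by
    rw [Nat.card_fun, Nat.card_eq_fintype_card, Fintype.card_units, Nat.card_eq_fintype_card,
      Fintype.card_fin]
  have hA := (zact (G := Fˣ) (cartanA D)).ker.card_mul_index
  have hMc := (zact (G := Fˣ) (cartanM D)).ker.card_mul_index
  rw [Subgroup.index_ker] at hA hMc
  rw [ker_cartanM_eq Mt hC (fun j hj => (simple_lt_all D hD j hj).1)] at hMc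
  have hpos : 0 < Nat.card (zact (G := Fˣ) (cartanA D)).ker := Nat.card_pos
  have hrange : Nat.card (zact (G := Fˣ) (cartanA D)).range
      = Nat.card (zact (G := Fˣ) (cartanM D)).range := by
    apply Nat.eq_of_mul_eq_mul_left hpos
    rw [hA, hMc]
  have hK : Nat.card Ψ.ker = Nat.card (D.diagonalSubgroup F) := by
    rw [hker, hrange, card_diagonal_eq hD]
  have hq := Subgroup.card_eq_card_quotient_mul_card_subgroup Ψ.ker
  rw [hcard1, ← hK, ← hC1, hq]
  ring

end

end Cfsg.Agent.Lib.Helper5.AutBN
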