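import Cfsg.Agent.Lib.Helper5.AutBN.OutIndex2
import Cfsg.Agent.S1081
import Mathlib

/-!
# The quotient of `Out D₄(q)` by the diagonal and field classes is non-abelian of order six
(helper5)
-/

set_option autoImplicit false
set_option maxRecDepth 1000000

namespace Cfsg.Agent.Lib.Helper5.AutBN

open Cfsg Cfsg.Lie Cfsg.Agent.Lib.Helper5 Cfsg.Agent.Lib.Helper5.Chev Cfsg.Agent.ChevAut
  Cfsg.Agent.S1081 Cfsg.Agent.Lib.Helper5.ChevPerm Cfsg.Agent.Lib.Helper5.ChevPermB
open scoped Matrix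

theorem isDiagramSymmetry_mul (D : ChevalleyDatum) (π π' : Equiv.Perm (Fin D.rank))
    (hπ : D.IsDiagramSymmetry π) (hπ' : D.IsDiagramSymmetry π') : D.IsDiagramSymmetry (π * π') := by
  intro i j hij
  rw [Equiv.Perm.mul_apply, Equiv.Perm.mul_apply, hπ _ _ (fun h => hij (π'.injective h)),
    hπ' i j hij]

section

variable {F : Type*} [Field F]

theorem actsVia_of_main (π : Equiv.Perm (Fin chevD4.rank)) (pi sg : List ℕ) (ep : List ℤ)
    (hc : certb chevD4 pi sg ep = true) (hs : simpleOK chevD4 pi sg ep)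
    (h : (List.ofFn fun i => (π i).val) = pi) :
    ∃ g : ↥(chevD4.group F) ≃* ↥(chevD4.group F), ActsVia chevD4 π g := by
  obtain ⟨α, hα⟩ := Cfsg.Agent.S1081.main (F := F) chevD4 pi sg ep hc hs
  refine ⟨α, ?_⟩
  intro y i t
  have := hα y i.val t i.2
  rw [getD_of_ofFn π _ h i] at this
  exact this

/-- every symmetry of the diagram of `D₄` is realised by a graph automorphism -/
theorem exists_actsVia_D4 (π : Equiv.Perm (Fin chevD4.rank)) (hπ : chevD4.IsDiagramSymmetry π) :
    ∃ g : ↥(chevD4.group F) ≃* ↥(chevD4.group F), ActsVia chevD4 π g := by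
  have hcl := classD4 π hπ
  simp only [List.mem_cons, List.not_mem_nil, or_false] at hcl
  rcases hcl with h | h | h | h | h | h
  · exact actsVia_of_main π [0, 1, 2, 3] sgD4i epD4i certD4i (by decide) h
  · exact actsVia_of_main π [2, 1, 3, 0] sgD4a epD4a certD4a (by decide) h
  · exact actsVia_of_main π [3, 1, 0, 2] sgD4b epD4b certD4b (by decide) h
  · exact actsVia_of_main π [2, 1, 0, 3] sgD4c epD4c certD4c (by decide) h
  · exact actsVia_of_main π [3, 1, 2, 0] sgD4d epD4d certD4d (by decide) h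
  · exact actsVia_of_main π [0, 1, 3, 2] sgD4e epD4e certD4e (by decide) h

end

/-- the symmetries of the diagram of `D₄` -/
abbrev GammaD4 : Type := {π : Equiv.Perm (Fin chevD4.rank) // chevD4.IsDiagramSymmetry π}

theorem card_GammaD4 : Fintype.card GammaD4 = 6 := by decide +kernel

/-- two symmetries of the diagram of `D₄` that do not commute -/
def piD4c : Equiv.Perm (Fin chevD4.rank) := Equiv.swap ⟨0, by decide⟩ ⟨2, by decide⟩
def piD4e : Equiv.Perm (Fin chevD4.rank) := Equiv.swap ⟨2, by decide⟩ ⟨3, by decide⟩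

theorem piD4c_sym : chevD4.IsDiagramSymmetry piD4c := by decide +kernel
theorem piD4e_sym : chevD4.IsDiagramSymmetry piD4e := by decide +kernel
theorem piD4_comm_ne : piD4c * piD4e * piD4c.symm * piD4e.symm ≠ 1 := by decide

section

variable {F : Type*} [Field F] [Finite F]
  (hD : chevD4 ∈ [chevG2, chevB2, chevD4, chevF4, chevE6, chevE7, chevE8])
  (M : List (List ℤ)) (d : ℤ) (hd : d ≠ 0) (hM : coordb chevD4 M d = true)

include hd in
/-- the diagonal and field classes of `D₄(q)` have index six in `Out` -/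
theorem index_DF_D4 : (DF (F := F) chevD4 hD M d hd hM).index = 6 := by
  classical
  have hD46 : chevD4 ∈ [chevD4, chevE6] := by simp
  have hnorm := DF_normal (F := F) chevD4 hD M d hd hM
  choose gsel hsel using fun π : GammaD4 => exists_actsVia_D4 (F := F) π.1 π.2
  let φ : GammaD4 → Cfsg.Out ↥(chevD4.group F) ⧸ DF (F := F) chevD4 hD M d hd hM :=
    fun π => QuotientGroup.mk (outMk chevD4 (gsel π))
  have hinj : Function.Injective φ := by
    intro π π' h
    have h1 : (outMk chevD4 (gsel π))⁻¹ * outMk chevD4 (gsel π') ∈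
        DF (F := F) chevD4 hD M d hd hM := QuotientGroup.eq.1 h
    rw [← map_inv, ← map_mul] at h1
    have h2 : ActsVia chevD4 (π.1.symm * π'.1) ((gsel π)⁻¹ * gsel π') :=
      ((hsel π).symm hD).mul (hsel π')
    have h3 := perm_eq_one_of_mem_DF chevD4 hD M d hd hM hD46 _
      (isDiagramSymmetry_mul chevD4 _ _ (isDiagramSymmetry_symm chevD4 _ π.2) π'.2) _ h2 h1
    apply Subtype.ext
    have h4 : π.1 * (π.1.symm * π'.1) = π.1 * 1 := by rw [h3]
    have h5 : π.1 * (π.1.symm * π'.1) = π'.1 := by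
      apply Equiv.ext
      intro i
      simp
    rw [h5, mul_one] at h4
    exact h4.symm
  have hsurj : Function.Surjective φ := by
    intro q
    obtain ⟨ω, rfl⟩ := QuotientGroup.mk_surjective q
    obtain ⟨c, g, σ, hg, rfl⟩ := exists_decomp_out chevD4 hD M d hd hM ω
    obtain ⟨π, hπ, hgπ⟩ := actsVia_of_isGraphAut chevD4 hD46 g hg
    refine ⟨⟨π, hπ⟩, ?_⟩
    have hgg : gsel ⟨π, hπ⟩ = g := ActsVia.unique hD (hsel ⟨π, hπ⟩) hgπ
    show (QuotientGroup.mk (outMk chevD4 (gsel ⟨π, hπ⟩)) :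
      Cfsg.Out ↥(chevD4.group F) ⧸ DF (F := F) chevD4 hD M d hd hM) = QuotientGroup.mk _
    rw [hgg, QuotientGroup.eq]
    have h1 := hnorm.conj_mem _ (diagOut_mem_DF chevD4 hD M d hd hM c) (outMk chevD4 g)⁻¹
    have e : (outMk chevD4 g)⁻¹ *
        (diagOut chevD4 hD M d hd hM c * (outMk chevD4 g * fieldOut chevD4 σ))
        = (outMk chevD4 g)⁻¹ * diagOut chevD4 hD M d hd hM c * (outMk chevD4 g)⁻¹⁻¹ *
          fieldOut chevD4 σ := by group
    rw [e]
    exact Subgroup.mul_mem _ h1 (fieldOut_mem_DF chevD4 hD M d hd hM σ)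
  have hcard : Nat.card (Cfsg.Out ↥(chevD4.group F) ⧸ DF (F := F) chevD4 hD M d hd hM)
      = Nat.card GammaD4 := (Nat.card_congr (Equiv.ofBijective φ ⟨hinj, hsurj⟩)).symm
  rw [Subgroup.index, hcard, Nat.card_eq_fintype_card, card_GammaD4]

include hd in
/-- the quotient of `Out D₄(q)` by the diagonal and field classes is not abelian -/
theorem commutator_not_le_DF_D4 :
    ¬ commutator (Cfsg.Out ↥(chevD4.group F)) ≤ DF (F := F) chevD4 hD M d hd hM := by
  intro hle
  have hD46 : chevD4 ∈ [chevD4, chevE6] := by simp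
  obtain ⟨gc, hgc⟩ := exists_actsVia_D4 (F := F) piD4c piD4c_sym
  obtain ⟨ge, hge⟩ := exists_actsVia_D4 (F := F) piD4e piD4e_sym
  have h2 : outMk chevD4 gc * outMk chevD4 ge * (outMk chevD4 gc)⁻¹ * (outMk chevD4 ge)⁻¹
      ∈ DF (F := F) chevD4 hD M d hd hM := by
    apply hle
    rw [commutator_def]
    have := Subgroup.commutator_mem_commutator
      (Subgroup.mem_top (outMk (F := F) chevD4 gc)) (Subgroup.mem_top (outMk (F := F) chevD4 ge))
    rw [commutatorElement_def] at this
    exact this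
  rw [← map_inv, ← map_inv, ← map_mul, ← map_mul, ← map_mul] at h2
  have h3 : ActsVia chevD4 (piD4c * piD4e * piD4c.symm * piD4e.symm) (gc * ge * gc⁻¹ * ge⁻¹) :=
    ((hgc.mul hge).mul (hgc.symm hD)).mul (hge.symm hD)
  have hs : chevD4.IsDiagramSymmetry (piD4c * piD4e * piD4c.symm * piD4e.symm) :=
    isDiagramSymmetry_mul _ _ _ (isDiagramSymmetry_mul _ _ _
      (isDiagramSymmetry_mul _ _ _ piD4c_sym piD4e_sym)
      (isDiagramSymmetry_symm _ _ piD4c_sym)) (isDiagramSymmetry_symm _ _ piD4e_sym)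
  exact piD4_comm_ne (perm_eq_one_of_mem_DF chevD4 hD M d hd hM hD46 _ hs _ h3 h2)

end

end Cfsg.Agent.Lib.Helper5.AutBN
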