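import Cfsg.Agent.Lib.Helper5.AutBN.OutTools
import Cfsg.Agent.Lib.Lead.ChevRootChar
import Mathlib

/-!
# Diagram symmetries and diagonal automorphisms: the computations (helper5)
-/

set_option autoImplicit false

namespace Cfsg.Agent.Lib.Helper5.AutBN

open Cfsg Cfsg.Lie Cfsg.Agent.Lib.Helper5 Cfsg.Agent.Lib.Helper5.Chev Cfsg.Agent.ChevAut
open scoped Matrix

/-! ### diagram symmetries and numbers of walks -/

/-- the off-diagonal bond numbers -/
def bnd (D : ChevalleyDatum) (i j : Fin D.rank) : ℤ := if i = j then 0 else D.bonds i j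

/-- weighted numbers of walks in the diagram -/
def walk (D : ChevalleyDatum) : ℕ → Fin D.rank → ℤ
  | 0, _ => 1
  | k + 1, i => ∑ j, bnd D i j * walk D k j

theorem bnd_perm (D : ChevalleyDatum) (π : Equiv.Perm (Fin D.rank)) (hπ : D.IsDiagramSymmetry π)
    (i j : Fin D.rank) : bnd D (π i) (π j) = bnd D i j := by
  unfold bnd
  by_cases h : i = j
  · rw [if_pos h, if_pos (by rw [h])]
  · rw [if_neg h, if_neg (fun e => h (π.injective e))]
    exact hπ i j h

theorem walk_perm (D : ChevalleyDatum) (π : Equiv.Perm (Fin D.rank)) (hπ : D.IsDiagramSymmetry π)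
    (k : ℕ) (i : Fin D.rank) : walk D k (π i) = walk D k i := by
  induction k generalizing i with
  | zero => rfl
  | succ k ih =>
    show ∑ j, bnd D (π i) j * walk D k j = ∑ j, bnd D i j * walk D k j
    rw [← Equiv.sum_comp π]
    apply Finset.sum_congr rfl
    intro j _
    rw [bnd_perm D π hπ, ih]

/-- a diagram whose nodes are distinguished by their numbers of walks of length at most three
has no symmetry -/
theorem eq_one_of_walk_inj (D : ChevalleyDatum)
    (hinj : Function.Injective fun i : Fin D.rank => (walk D 1 i, walk D 2 i, walk D 3 i))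
    (π : Equiv.Perm (Fin D.rank)) (hπ : D.IsDiagramSymmetry π) : π = 1 := by
  apply Equiv.ext
  intro i
  apply hinj
  show (walk D 1 (π i), walk D 2 (π i), walk D 3 (π i)) = (walk D 1 i, walk D 2 i, walk D 3 i)
  rw [walk_perm D π hπ, walk_perm D π hπ, walk_perm D π hπ]

theorem walk_inj_E8 :
    Function.Injective fun i : Fin chevE8.rank => (walk chevE8 1 i, walk chevE8 2 i, walk chevE8 3 i) := by
  decide +kernel

theorem walk_inj_E7 :
    Function.Injective fun i : Fin chevE7.rank => (walk chevE7 1 i, walk chevE7 2 i, walk chevE7 3 i) := by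
  decide +kernel

/-! ### solving for the element of `H` -/

section

variable {α : Type*} [CommGroup α]

theorem list_range_prod (n : ℕ) (f : ℕ → α) :
    ((List.range n).map f).prod = ∏ j ∈ Finset.range n, f j := by
  induction n with
  | zero => simp
  | succ n ih => rw [List.range_succ, List.map_append, List.prod_append, ih,
      Finset.prod_range_succ]; simp

theorem list_range_sum (n : ℕ) (f : ℕ → ℤ) :
    ((List.range n).map f).sum = ∑ j ∈ Finset.range n, f j := by
  induction n with
  | zero => simp
  | succ n ih => rw [List.range_succ, List.map_append, List.sum_append, ih,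
      Finset.sum_range_succ]; simp

theorem prod_zpow_sum (a : α) (n : ℕ) (f : ℕ → ℤ) :
    ∏ k ∈ Finset.range n, a ^ f k = a ^ ∑ k ∈ Finset.range n, f k := by
  induction n with
  | zero => simp
  | succ n ih => rw [Finset.prod_range_succ, Finset.sum_range_succ, ih, zpow_add]

end

section

variable {F : Type*} [Field F]

/-- the scalars `u_k = ∏_j c_j ^ M[j][k]` -/
noncomputable def solU (D : ChevalleyDatum) (M : List (List ℤ)) (c : ℕ → Fˣ) (k : ℕ) : Fˣ :=
  ((List.range D.rank).map fun j => c j ^ ((M.getD j []).getD k 0)).prod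

/-- the character of `∏ h_{p_k}(u_k)` takes the value `c_i ^ d` at the `i`-th fundamental root -/
theorem chiL_solU (D : ChevalleyDatum) {M : List (List ℤ)} {d : ℤ} (hM : coordb D M d = true)
    (c : ℕ → Fˣ) (i : ℕ) (hi : i < D.rank) :
    chiL D (List.range D.rank) (solU D M c) (D.simple i) = c i ^ d := by
  obtain ⟨-, h2⟩ := coordb_spec hM
  unfold chiL solU
  rw [list_range_prod]
  have e1 : ∀ k ∈ Finset.range D.rank,
      (((List.range D.rank).map fun j => c j ^ ((M.getD j []).getD k 0)).prod) ^
        (D.cartan k (D.simple i))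
      = ∏ j ∈ Finset.range D.rank, c j ^ ((M.getD j []).getD k 0 * D.cartan k (D.simple i)) := by
    intro k _
    rw [list_range_prod, ← Finset.prod_zpow]
    apply Finset.prod_congr rfl
    intro j _
    rw [zpow_mul]
  rw [Finset.prod_congr rfl e1, Finset.prod_comm]
  have e2 : ∀ j ∈ Finset.range D.rank,
      ∏ k ∈ Finset.range D.rank, c j ^ ((M.getD j []).getD k 0 * D.cartan k (D.simple i))
      = if j = i then c i ^ d else 1 := by
    intro j hj
    rw [prod_zpow_sum, ← list_range_sum]
    have := h2 j (Finset.mem_range.1 hj) i hi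
    unfold coordNum at this
    rw [this]
    split_ifs with h
    · rw [h]
    · rw [zpow_zero]
  rw [Finset.prod_congr rfl e2, Finset.prod_ite_eq' (Finset.range D.rank) i (fun _ => c i ^ d),
    if_pos (Finset.mem_range.2 hi)]

end

end Cfsg.Agent.Lib.Helper5.AutBN
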