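import Cfsg.Agent.Lib.Helper5.AutBN.OutD4
import Cfsg.Agent.Lib.Helper5.AutBN.OutTools2
import Mathlib

set_option autoImplicit false
set_option maxRecDepth 1000000

namespace Cfsg.Agent.Lib.Helper5.AutBN

open Cfsg Cfsg.Lie Cfsg.Agent.Lib.Helper5 Cfsg.Agent.Lib.Helper5.Chev Cfsg.Agent.ChevAut
open scoped Matrix

/-- the automorphism group of a finite field is cyclic -/
theorem isCyclic_ringAut {F : Type*} [Field F] [Finite F] : IsCyclic (F ≃+* F) := by
  obtain ⟨p, hp⟩ := CharP.exists F
  have hprime : Fact p.Prime := ⟨CharP.char_is_prime F p⟩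
  let _ : Algebra (ZMod p) F := ZMod.algebra F p
  let φ : (F ≃ₐ[ZMod p] F) →* (F ≃+* F) :=
    { toFun := fun e => e.toRingEquiv
      map_one' := rfl
      map_mul' := fun _ _ => rfl }
  have hφ : Function.Surjective φ := by
    intro ψ
    refine ⟨AlgEquiv.ofRingEquiv (f := ψ) (fun r => ?_), rfl⟩
    have : (ψ : F →+* F).comp (algebraMap (ZMod p) F) = algebraMap (ZMod p) F :=
      Subsingleton.elim _ _
    exact DFunLike.congr_fun this r
  exact isCyclic_of_surjective φ hφ

/-- the swap of the diagram of `G₂` -/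
def piG2 : Equiv.Perm (Fin chevG2.rank) := Equiv.swap ⟨0, by decide⟩ ⟨1, by decide⟩

theorem symG2 : ∀ π : Equiv.Perm (Fin chevG2.rank), π = 1 ∨ π = piG2 := by decide

/-- the swap of the diagram of `B₂` -/
def piB2 : Equiv.Perm (Fin chevB2.rank) := Equiv.swap ⟨0, by decide⟩ ⟨1, by decide⟩

theorem symB2 : ∀ π : Equiv.Perm (Fin chevB2.rank), π = 1 ∨ π = piB2 := by decide

/-- the reversal of the diagram of `F₄` -/
def piF4 : Equiv.Perm (Fin chevF4.rank) :=
  Equiv.swap ⟨0, by decide⟩ ⟨3, by decide⟩ * Equiv.swap ⟨1, by decide⟩ ⟨2, by decide⟩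

theorem symF4 : ∀ π : Equiv.Perm (Fin chevF4.rank), chevF4.IsDiagramSymmetry π →
    π = 1 ∨ π = piF4 := by
  decide +kernel


section

variable {F : Type*} [Field F] (D : ChevalleyDatum)
  (hD : D ∈ [chevG2, chevB2, chevD4, chevF4, chevE6, chevE7, chevE8])
  (M : List (List ℤ)) (d : ℤ) (hd : d ≠ 0) (hM : coordb D M d = true)

include hd in
/-- the classes of the diagonal automorphisms -/
theorem map_closure_diagonal :
    (Subgroup.closure {φ : MulAut ↥(D.group F) | D.IsDiagonalAut φ}).map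
      (QuotientGroup.mk' (Cfsg.Inn ↥(D.group F))) = (diagOut (F := F) D hD M d hd hM).range := by
  have h1 : {φ : MulAut ↥(D.group F) | D.IsDiagonalAut φ}
      = ((diagHom (F := F) D hD M d hd hM).range : Set (MulAut ↥(D.group F))) := by
    ext φ
    constructor
    · intro hφ
      obtain ⟨c, hc⟩ := eq_diagC D hD M d hd hM φ hφ
      exact ⟨c, hc.symm⟩
    · rintro ⟨c, rfl⟩
      exact isDiagonalAut_diagAut D hD _ (isRootCharacter_chiC D hD M d hM c)
  rw [h1, Subgroup.closure_eq, MonoidHom.map_range]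
  rfl

include hD in
/-- the classes of the field automorphisms -/
theorem map_closure_field :
    (Subgroup.closure {φ : MulAut ↥(D.group F) | D.IsFieldAut φ}).map
      (QuotientGroup.mk' (Cfsg.Inn ↥(D.group F))) = (fieldOut (F := F) D).range := by
  have h1 : {φ : MulAut ↥(D.group F) | D.IsFieldAut φ}
      = ((fieldAutHom (F := F) D).range : Set (MulAut ↥(D.group F))) := by
    ext φ
    constructor
    · rintro ⟨σ, hσ⟩
      exact ⟨σ, (eq_fieldAut D hD σ φ hσ).symm⟩
    · rintro ⟨σ, rfl⟩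
      exact isFieldAut_fieldAut D σ
  rw [h1, Subgroup.closure_eq, MonoidHom.map_range]
  rfl

end

end Cfsg.Agent.Lib.Helper5.AutBN
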