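import Cfsg.Agent.Lib.Helper5.AutBN.OutIndex
import Mathlib

/-!
# The index of `DF` is at most two when the diagram has at most two symmetries (helper5)
-/

set_option autoImplicit false

namespace Cfsg.Agent.Lib.Helper5.AutBN

open Cfsg Cfsg.Lie Cfsg.Agent.Lib.Helper5 Cfsg.Agent.Lib.Helper5.Chev Cfsg.Agent.ChevAut
open scoped Matrix

section

variable {F : Type*} [Field F] [Finite F] (D : ChevalleyDatum)
  (hD : D ∈ [chevG2, chevB2, chevD4, chevF4, chevE6, chevE7, chevE8])
  (M : List (List ℤ)) (d : ℤ) (hd : d ≠ 0) (hM : coordb D M d = true)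

include hd in
/-- if the diagram has at most two symmetries then `DF` has index `1` or `2` in `Out G` (no
existence statement and no invariant needed) -/
theorem index_DF_le_two (π0 : Equiv.Perm (Fin D.rank))
    (hsym : ∀ π : Equiv.Perm (Fin D.rank), D.IsDiagramSymmetry π → π = 1 ∨ π = π0) :
    (DF (F := F) D hD M d hd hM).index = 1 ∨ (DF (F := F) D hD M d hd hM).index = 2 := by
  by_cases hex : ∃ g : ↥(D.group F) ≃* ↥(D.group F), GraphBody D π0 g
  · obtain ⟨g0, hg0⟩ := hex
    by_cases hmem : outMk D g0 ∈ DF D hD M d hd hM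
    · left
      rw [Subgroup.index_eq_one, eq_top_iff]
      intro ω _
      obtain ⟨c, g, σ, ⟨π, hπ, hg⟩, rfl⟩ := exists_decomp_out D hD M d hd hM ω
      rcases hsym π hπ with rfl | rfl
      · have : g = 1 := GraphBody.eq_one hD hg
        rw [this, map_one, one_mul]
        exact ⟨c, σ, rfl⟩
      · have : g = g0 := GraphBody.unique hD hg hg0
        subst this
        exact Subgroup.mul_mem _ (diagOut_mem_DF D hD M d hd hM c)
          (Subgroup.mul_mem _ hmem (fieldOut_mem_DF D hD M d hd hM σ))
    · right
      rw [Subgroup.index_eq_two_iff_exists_notMem_and]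
      refine ⟨(outMk D g0)⁻¹, fun h => hmem ((Subgroup.inv_mem_iff _).1 h), ?_⟩
      intro ω
      obtain ⟨c, g, σ, ⟨π, hπ, hg⟩, rfl⟩ := exists_decomp_out D hD M d hd hM ω
      rcases hsym π hπ with rfl | rfl
      · right
        have : g = 1 := GraphBody.eq_one hD hg
        rw [this, map_one, one_mul]
        exact ⟨c, σ, rfl⟩
      · left
        have : g = g0 := GraphBody.unique hD hg hg0
        subst this
        have hcomm := outMk_graph_mul_fieldOut D hD g ⟨π, hπ, hg⟩ σ
        have e : diagOut D hD M d hd hM c * (outMk D g * fieldOut D σ) * (outMk D g)⁻¹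
            = diagOut D hD M d hd hM c * fieldOut D σ := by
          rw [hcomm]
          group
        rw [e]
        exact ⟨c, σ, rfl⟩
  · left
    rw [Subgroup.index_eq_one]
    exact DF_eq_top D hD M d hd hM π0 hsym hex

end

end Cfsg.Agent.Lib.Helper5.AutBN
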