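import Cfsg.Agent.Lib.Helper5.BN
import Mathlib

/-!
# Automorphisms of a group with a `(B, N)`-pair fixing `B` permute the parabolic subgroups (helper5)
-/

set_option autoImplicit false

namespace Cfsg.Agent.Lib.Helper5.AutBN

open Cfsg Cfsg.Agent.Lib.Helper5

variable {G : Type*} [Group G] (P : BNPair G)

theorem parabolic_empty : P.parabolic ∅ = P.B := by
  unfold BNPair.parabolic
  rw [Subgroup.closure_empty, sup_bot_eq]

theorem mem_parabolic_self {J : Set G} {s : G} (hs : s ∈ J) : s ∈ P.parabolic J := by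
  have : Subgroup.closure J ≤ P.parabolic J := le_sup_right
  exact this (Subgroup.subset_closure hs)

/-- `P_s ≠ B` -/
theorem parabolic_single_ne {s : G} (hs : s ∈ P.S) : P.parabolic {s} ≠ P.B := by
  intro h
  apply BN.S_not_mem_B P hs
  rw [← h]
  exact mem_parabolic_self P rfl

theorem parabolic_le_of {J : Set G} {M : Subgroup G} (hB : P.B ≤ M) (hJ : ∀ s ∈ J, s ∈ M) :
    P.parabolic J ≤ M := by
  unfold BNPair.parabolic
  apply sup_le hB
  rw [Subgroup.closure_le]
  exact hJ

/-- a minimal overgroup of `B` -/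
def IsMinOver (M : Subgroup G) : Prop :=
  P.B ≤ M ∧ M ≠ P.B ∧ ∀ M' : Subgroup G, P.B ≤ M' → M' ≤ M → M' = P.B ∨ M' = M

/-- the minimal overgroups of `B` are the subgroups `P_s` -/
theorem isMinOver_iff (M : Subgroup G) : IsMinOver P M ↔ ∃ s ∈ P.S, M = P.parabolic {s} := by
  constructor
  · rintro ⟨hB, hne, hmin⟩
    have hM := BN.eq_parabolic_of_le P M hB
    have hne' : ∃ s, s ∈ P.S ∧ s ∈ M := by
      by_contra hcon
      simp only [not_exists, not_and] at hcon
      apply hne
      rw [hM]
      have : {s | s ∈ P.S ∧ s ∈ M} = (∅ : Set G) := by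
        ext s
        simp only [Set.mem_ofPred_eq, Set.mem_empty_iff_false, iff_false, not_and]
        exact hcon s
      rw [this, parabolic_empty]
    obtain ⟨s, hs, hsM⟩ := hne'
    refine ⟨s, hs, ?_⟩
    have hle : P.parabolic {s} ≤ M := by
      apply parabolic_le_of P hB
      intro x hx
      rw [Set.mem_singleton_iff] at hx
      rw [hx]
      exact hsM
    rcases hmin _ (BN.B_le_parabolic P {s}) hle with h | h
    · exact absurd h (parabolic_single_ne P hs)
    · exact h.symm
  · rintro ⟨s, hs, rfl⟩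
    refine ⟨BN.B_le_parabolic P _, parabolic_single_ne P hs, ?_⟩
    intro M' hB hle
    have hM' := BN.eq_parabolic_of_le P M' hB
    by_cases hs' : s ∈ M'
    · right
      apply le_antisymm hle
      apply parabolic_le_of P hB
      intro x hx
      rw [Set.mem_singleton_iff] at hx
      rw [hx]
      exact hs'
    · left
      have hJ : {t | t ∈ P.S ∧ t ∈ M'} ⊆ P.S := fun t ht => ht.1
      have hle' : P.parabolic {t | t ∈ P.S ∧ t ∈ M'} ≤ P.parabolic {s} := by
        rw [← hM']
        exact hle
      have hsub := (BN.parabolic_le_iff P hJ (Set.singleton_subset_iff.2 hs)).1 hle'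
      have : {t | t ∈ P.S ∧ t ∈ M'} = (∅ : Set G) := by
        ext t
        simp only [Set.mem_ofPred_eq, Set.mem_empty_iff_false, iff_false, not_and]
        intro ht htM
        have := hsub ⟨ht, htM⟩
        rw [Set.mem_singleton_iff] at this
        rw [this] at htM
        exact hs' htM
      rw [hM', this, parabolic_empty]

variable {P}

/-- an automorphism fixing `B` preserves the minimal overgroups of `B` -/
theorem map_isMinOver (θ : G ≃* G) (hθ : P.B.map θ.toMonoidHom = P.B) (M : Subgroup G)
    (hM : IsMinOver P M) : IsMinOver P (M.map θ.toMonoidHom) := by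
  obtain ⟨hB, hne, hmin⟩ := hM
  refine ⟨?_, ?_, ?_⟩
  · rw [← hθ]
    exact Subgroup.map_mono hB
  · intro h
    apply hne
    rw [← hθ] at h
    exact Subgroup.map_injective θ.injective h
  · intro M' hB' hle
    have h1 : P.B ≤ M'.comap θ.toMonoidHom := by
      rw [← Subgroup.map_le_iff_le_comap, hθ]
      exact hB'
    have h2 : M'.comap θ.toMonoidHom ≤ M := by
      intro x hx
      obtain ⟨y, hy, e⟩ := hle hx
      have : y = x := θ.injective e
      rwa [← this]
    rcases hmin _ h1 h2 with h | h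
    · left
      rw [← hθ, ← h, Subgroup.map_comap_eq_self_of_surjective θ.surjective]
    · right
      rw [← h, Subgroup.map_comap_eq_self_of_surjective θ.surjective]

theorem map_symm_B (θ : G ≃* G) (hθ : P.B.map θ.toMonoidHom = P.B) :
    P.B.map θ.symm.toMonoidHom = P.B := by
  conv_lhs => rw [← hθ]
  rw [Subgroup.map_map]
  have : θ.symm.toMonoidHom.comp θ.toMonoidHom = MonoidHom.id G := by
    ext x
    simp
  rw [this, Subgroup.map_id]

variable {ι : Type*} (s : ι → G)

theorem parabolic_single_inj (hinj : Function.Injective s) (hS : ∀ i, s i ∈ P.S) {i j : ι}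
    (h : P.parabolic {s i} = P.parabolic {s j}) : i = j := by
  have h1 := (BN.parabolic_le_iff P (Set.singleton_subset_iff.2 (hS i))
    (Set.singleton_subset_iff.2 (hS j))).1 h.le
  apply hinj
  have := h1 rfl
  rwa [Set.mem_singleton_iff] at this

theorem exists_map_single (hS : Set.range s = P.S) (θ : G ≃* G)
    (hθ : P.B.map θ.toMonoidHom = P.B) (i : ι) :
    ∃ j, (P.parabolic {s i}).map θ.toMonoidHom = P.parabolic {s j} := by
  have hi : s i ∈ P.S := by rw [← hS]; exact ⟨i, rfl⟩
  have h1 : IsMinOver P (P.parabolic {s i}) := (isMinOver_iff P _).2 ⟨s i, hi, rfl⟩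
  obtain ⟨t, ht, e⟩ := (isMinOver_iff P _).1 (map_isMinOver θ hθ _ h1)
  rw [← hS] at ht
  obtain ⟨j, rfl⟩ := ht
  exact ⟨j, e⟩

/-- one inclusion for the image of a parabolic subgroup -/
theorem map_parabolic_le (θ : G ≃* G) (hθ : P.B.map θ.toMonoidHom = P.B) (f : ι → ι)
    (hf : ∀ i, (P.parabolic {s i}).map θ.toMonoidHom = P.parabolic {s (f i)}) (J : Set ι) :
    (P.parabolic (s '' J)).map θ.toMonoidHom ≤ P.parabolic (s '' (f '' J)) := by
  unfold BNPair.parabolic
  rw [Subgroup.map_sup, hθ]
  apply sup_le le_sup_left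
  rw [MonoidHom.map_closure, Subgroup.closure_le]
  rintro y ⟨x, ⟨i, hi, rfl⟩, rfl⟩
  have h1 : θ (s i) ∈ (P.parabolic {s i}).map θ.toMonoidHom :=
    Subgroup.mem_map_of_mem _ (mem_parabolic_self P rfl)
  rw [hf i] at h1
  have h2 : P.parabolic {s (f i)} ≤ P.parabolic (s '' (f '' J)) := by
    apply BN.parabolic_mono
    rw [Set.singleton_subset_iff]
    exact ⟨f i, ⟨i, hi, rfl⟩, rfl⟩
  exact h2 h1

/-- an automorphism fixing `B` permutes the parabolic subgroups -/
theorem exists_perm (hinj : Function.Injective s) (hS : Set.range s = P.S) (θ : G ≃* G)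
    (hθ : P.B.map θ.toMonoidHom = P.B) :
    ∃ ρ : Equiv.Perm ι,
      (∀ i, (P.parabolic {s i}).map θ.toMonoidHom = P.parabolic {s (ρ i)}) ∧
      ∀ J : Set ι, (P.parabolic (s '' J)).map θ.toMonoidHom = P.parabolic (s '' (ρ '' J)) := by
  have hS' : ∀ i, s i ∈ P.S := fun i => by rw [← hS]; exact ⟨i, rfl⟩
  have hθ' := map_symm_B θ hθ
  choose f hf using exists_map_single s hS θ hθ
  choose g hg using exists_map_single s hS θ.symm hθ'
  have hcomp : θ.symm.toMonoidHom.comp θ.toMonoidHom = MonoidHom.id G := by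
    ext x
    simp
  have hcomp' : θ.toMonoidHom.comp θ.symm.toMonoidHom = MonoidHom.id G := by
    ext x
    simp
  have hgf : ∀ i, g (f i) = i := by
    intro i
    apply parabolic_single_inj s hinj hS'
    rw [← hg, ← hf, Subgroup.map_map, hcomp, Subgroup.map_id]
  have hfg : ∀ i, f (g i) = i := by
    intro i
    apply parabolic_single_inj s hinj hS'
    rw [← hf, ← hg, Subgroup.map_map, hcomp', Subgroup.map_id]
  refine ⟨⟨f, g, hgf, hfg⟩, hf, ?_⟩
  intro J
  apply le_antisymm
  · exact map_parabolic_le s θ hθ f hf J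
  · have h1 := map_parabolic_le s θ.symm hθ' g hg (f '' J)
    have h2 : g '' (f '' J) = J := by
      rw [Set.image_image]
      simp only [hgf, Set.image_id']
    rw [h2] at h1
    have h3 := Subgroup.map_mono (f := θ.toMonoidHom) h1
    rw [Subgroup.map_map, hcomp', Subgroup.map_id] at h3
    exact h3

end Cfsg.Agent.Lib.Helper5.AutBN
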